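import Cfsg.Agent.Lib.Basic
import Cfsg.Agent.S0205

/-!
Fixed elements in cosets and invariant Sylow subgroups for an automorphism of order dividing three of a group
of order prime to three; odd parts over central 2-subgroups.
-/

set_option autoImplicit false
set_option linter.style.haveILetI false

namespace CfsgLib.FpfSymThree

open Cfsg
open scoped Pointwise

universe u

/-- A map with trivial cube on a finite type whose cardinality is prime to three has a fixed point. -/
theorem exists_fixed_three {α : Type u} [Finite α] (f : α → α) (hf : ∀ x, f (f (f x)) = x)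
    (hn : ¬ 3 ∣ Nat.card α) : ∃ x, f x = x := by
  classical
  haveI : Fintype α := Fintype.ofFinite α
  haveI : Fact (Nat.Prime 3) := ⟨Nat.prime_three⟩
  let e : Equiv.Perm α := ⟨f, fun x => f (f x), hf, hf⟩
  exact Equiv.Perm.exists_fixed_point_of_prime (p := 3) (n := 1) (by rwa [← Nat.card_eq_fintype_card]) (σ := e)
    (Equiv.ext fun x => by simp only [pow_one, pow_succ, pow_zero, one_mul]; exact hf x)

/-- A map with trivial square on a finite type of odd cardinality has a fixed point. -/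
theorem exists_fixed_two {α : Type u} [Finite α] (f : α → α) (hf : ∀ x, f (f x) = x)
    (hn : ¬ 2 ∣ Nat.card α) : ∃ x, f x = x := by
  classical
  haveI : Fintype α := Fintype.ofFinite α
  haveI : Fact (Nat.Prime 2) := ⟨Nat.prime_two⟩
  let e : Equiv.Perm α := ⟨f, f, hf, hf⟩
  exact Equiv.Perm.exists_fixed_point_of_prime (p := 2) (n := 1) (by rwa [← Nat.card_eq_fintype_card]) (σ := e)
    (Equiv.ext fun x => by simp only [pow_one, pow_succ, pow_zero, one_mul]; exact hf x)

variable {G : Type u} [Group G] [Finite G]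

/-- The order of a subgroup is prime to three if that of the group is. -/
theorem not_three_dvd_subgroup (h3 : ¬ 3 ∣ Nat.card G) (H : Subgroup G) : ¬ 3 ∣ Nat.card H :=
  fun h => h3 (h.trans (Subgroup.card_subgroup_dvd_card H))

/-- An invariant coset of an invariant subgroup contains a fixed element. -/
theorem exists_fixed_coset (φ : MulAut G) (hφ : ∀ x, φ (φ (φ x)) = x) {N : Subgroup G} (hN : ∀ n ∈ N, φ n ∈ N)
    (h3 : ¬ 3 ∣ Nat.card N) {x : G} (hx : x⁻¹ * φ x ∈ N) : ∃ n ∈ N, φ (x * n) = x * n := by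
  obtain ⟨n, hn⟩ := exists_fixed_three (fun n : N =>
    (⟨x⁻¹ * φ x * φ n, mul_mem hx (hN n n.2)⟩ : N)) (fun n => Subtype.ext (by
      simp only [map_mul, map_inv, hφ]
      group)) h3
  refine ⟨n, n.2, ?_⟩
  have := congrArg Subtype.val hn
  simp only at this
  calc φ (x * n) = x * (x⁻¹ * φ x * φ n) := by rw [map_mul]; group
    _ = x * n := by rw [this]

/-- An invariant Sylow subgroup exists. -/
theorem exists_invariant_sylow (φ : MulAut G) (hφ : ∀ x, φ (φ (φ x)) = x) (h3 : ¬ 3 ∣ Nat.card G)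
    (p : ℕ) [Fact p.Prime] : ∃ P : Sylow p G, φ • P = P := by
  have hφ' : φ * (φ * φ) = 1 := MulEquiv.ext hφ
  refine exists_fixed_three (fun P : Sylow p G => φ • P) (fun P => ?_) fun h => h3 ?_
  · rw [← mul_smul, ← mul_smul, mul_assoc, hφ', one_smul]
  · obtain ⟨P⟩ : Nonempty (Sylow p G) := inferInstance
    exact h.trans ((Sylow.card_eq_index_normalizer P).symm ▸ Subgroup.index_dvd_card _)

/-- Two invariant Sylow subgroups are conjugate by a fixed element. -/
theorem sylow_conj_fixed (φ : MulAut G) (hφ : ∀ x, φ (φ (φ x)) = x) (h3 : ¬ 3 ∣ Nat.card G)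
    {p : ℕ} [Fact p.Prime] {P Q : Sylow p G} (hP : φ • P = P) (hQ : φ • Q = Q) :
    ∃ c : G, φ c = c ∧ c • P = Q := by
  obtain ⟨g, hg⟩ := MulAction.exists_smul_eq G P Q
  have key : ∀ (x : G) (R : Sylow p G), φ • (x • R) = φ x • (φ • R) := by
    intro x R
    apply Sylow.ext
    show φ • (MulAut.conj x • (R : Subgroup G)) = MulAut.conj (φ x) • (φ • (R : Subgroup G))
    rw [smul_smul, smul_smul]
    congr 1
    exact MulEquiv.ext fun w => by simp
  have hN : ∀ n ∈ MulAction.stabilizer G P, φ n ∈ MulAction.stabilizer G P := fun n hn => by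
    rw [MulAction.mem_stabilizer_iff] at hn ⊢
    calc φ n • P = φ n • (φ • P) := by rw [hP]
      _ = φ • (n • P) := (key n P).symm
      _ = P := by rw [hn, hP]
  have hx : g⁻¹ * φ g ∈ MulAction.stabilizer G P := by
    rw [MulAction.mem_stabilizer_iff, mul_smul, inv_smul_eq_iff]
    calc φ g • P = φ g • (φ • P) := by rw [hP]
      _ = φ • (g • P) := (key g P).symm
      _ = g • P := by rw [hg, hQ]
  obtain ⟨n, hn, hfix⟩ := exists_fixed_coset φ hφ hN (not_three_dvd_subgroup h3 _) hx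
  exact ⟨g * n, hfix, by rw [mul_smul, MulAction.mem_stabilizer_iff.1 hn, hg]⟩

/-- A normal subgroup with a central normal 2-subgroup of odd index lies in that 2-subgroup when the odd core
is trivial. -/
theorem le_of_central_two (hO : pPrimeCore 2 G = ⊥) {K F : Subgroup G} [hK : K.Normal] (hFK : F ≤ K)
    (hF2 : IsPGroup 2 F) (hcen : ∀ k ∈ K, ∀ f ∈ F, k * f = f * k) (hidx : ¬ 2 ∣ F.relIndex K) : K ≤ F := by
  classical
  have hn : (F.subgroupOf K).Normal := ⟨fun f hf k => by
    rw [Subgroup.mem_subgroupOf] at hf ⊢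
    have h := hcen k k.2 f hf
    simp only [Subgroup.coe_mul, InvMemClass.coe_inv]
    rw [h, mul_inv_cancel_right]
    exact hf⟩
  obtain ⟨a, ha⟩ := IsPGroup.exists_card_eq hF2
  have hcardF : Nat.card (F.subgroupOf K) = 2 ^ a := by
    rw [Nat.card_congr (Subgroup.subgroupOfEquivOfLe hFK).toEquiv, ha]
  obtain ⟨R, hR⟩ := Subgroup.exists_right_complement'_of_coprime (N := F.subgroupOf K) (by
    rw [hcardF]
    exact ((Nat.Prime.coprime_iff_not_dvd Nat.prime_two).2 hidx).pow_left a)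
  have hRcard : Nat.card R = F.relIndex K := by
    have h1 := hR.card_mul
    have h2 := Subgroup.card_mul_index (F.subgroupOf K)
    rw [← h2] at h1
    exact Nat.eq_of_mul_eq_mul_left Nat.card_pos h1
  have hRodd : ∀ r ∈ R, Odd (orderOf r) := fun r hr => by
    rw [Nat.odd_iff, ← Nat.two_dvd_ne_zero]
    exact fun h => hidx (hRcard ▸ h.trans (Subgroup.orderOf_dvd_natCard R hr))
  -- the complement consists of the elements of odd order
  have hmem : ∀ x : K, Odd (orderOf x) → x ∈ R := by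
    intro x hx
    obtain ⟨⟨f, r⟩, hfr⟩ := hR.2 x
    simp only at hfr
    have hf2 : ∃ b, ((f : K)) ^ 2 ^ b = 1 := by
      obtain ⟨b, hb⟩ := hF2 ⟨((f : K) : G), f.2⟩
      exact ⟨b, Subtype.ext (by simpa using congrArg Subtype.val hb)⟩
    obtain ⟨b, hb⟩ := hf2
    have hc : Commute (f : K) (r : K) := Subtype.ext (hcen _ (r : K).2 _ f.2).symm
    have hodd : Odd (orderOf x * orderOf (r : K)) := hx.mul (hRodd _ r.2)
    obtain ⟨n, hn⟩ : ∃ n, n = orderOf x := ⟨_, rfl⟩
    have h1 : (f : K) ^ (orderOf x * orderOf (r : K)) = 1 := by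
      have h := pow_orderOf_eq_one x
      rw [← hn] at h ⊢
      rw [← hfr] at h
      have : ((f : K) * (r : K)) ^ (n * orderOf (r : K)) = 1 := by rw [pow_mul, h, one_pow]
      rw [hc.mul_pow, mul_comm n (orderOf (r : K)), pow_mul (r : K), pow_orderOf_eq_one,
        one_pow, mul_one] at this
      rw [mul_comm]
      exact this
    have hf1 : (f : K) = 1 := by
      have := Nat.eq_one_of_dvd_coprimes ((Nat.coprime_two_left.2 hodd).pow_left b)
        (orderOf_dvd_of_pow_eq_one hb) (orderOf_dvd_of_pow_eq_one h1)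
      exact orderOf_eq_one_iff.1 this
    rw [← hfr, hf1, one_mul]
    exact r.2
  have hN : (R.map K.subtype).Normal := ⟨fun x hx g => by
    obtain ⟨r, hr, rfl⟩ := hx
    refine ⟨⟨g * (r : G) * g⁻¹, hK.conj_mem _ r.2 g⟩, hmem _ ?_, rfl⟩
    rw [← Subgroup.orderOf_coe]
    show Odd (orderOf (MulAut.conj g (r : G)))
    rw [MulEquiv.orderOf_eq, Subgroup.orderOf_coe]
    exact hRodd r hr⟩
  have hbot : R = ⊥ := by
    have h := CfsgLib.le_pPrimeCore (p := 2) (N := R.map K.subtype) (by
      rw [Subgroup.card_map_of_injective K.subtype_injective, hRcard]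
      exact ((Nat.Prime.coprime_iff_not_dvd Nat.prime_two).2 hidx).symm)
    rw [hO, le_bot_iff, Subgroup.map_eq_bot_iff_of_injective _ K.subtype_injective] at h
    exact h
  intro k hk
  obtain ⟨⟨f, r⟩, hfr⟩ := hR.2 ⟨k, hk⟩
  simp only at hfr
  have hr : (r : K) = 1 := (Subgroup.eq_bot_iff_forall _).1 hbot _ r.2
  rw [hr, mul_one] at hfr
  have := f.2
  rw [SetLike.mem_coe, Subgroup.mem_subgroupOf] at this
  have e : ((f : K) : G) = k := congrArg Subtype.val hfr
  rwa [← e]

/-- A group of order prime to three involves no `S₄`. -/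
theorem not_involves_sym_four (h3 : ¬ 3 ∣ Nat.card G) : ¬ Cfsg.Involves (Equiv.Perm (Fin 4)) G := by
  rintro ⟨K, R, hR, ⟨e⟩⟩
  refine h3 ?_
  have h1 : Nat.card (↥K ⧸ R.subgroupOf K) = 24 := by
    rw [Nat.card_congr e.toEquiv, Nat.card_perm, Nat.card_fin]; rfl
  have h2 := Subgroup.card_quotient_dvd_card (R.subgroupOf K)
  rw [h1] at h2
  exact ((by norm_num : (3 : ℕ) ∣ 24).trans h2).trans (Subgroup.card_subgroup_dvd_card K)

/-- A 2-element of a subgroup `S ⊔ O`, `O` an odd normal subgroup, is conjugate into `S` by an element of `O`. -/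
theorem conj_into_of_sup {O : Subgroup G} [O.Normal] (hO : (Nat.card O).Coprime 2) {T U : Subgroup G}
    (hT : IsPGroup 2 T) (hU : IsPGroup 2 U) (hUle : U ≤ T ⊔ O) :
    ∃ o ∈ O, ∀ x ∈ U, o * x * o⁻¹ ∈ T := by
  classical
  haveI : Fact (Nat.Prime 2) := ⟨Nat.prime_two⟩
  set L := T ⊔ O with hL
  have hTL : T ≤ L := le_sup_left
  obtain ⟨P, hP⟩ := (hT.of_equiv (Subgroup.subgroupOfEquivOfLe hTL).symm).exists_le_sylow
  obtain ⟨Q, hQ⟩ := (hU.of_equiv (Subgroup.subgroupOfEquivOfLe hUle).symm).exists_le_sylow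
  obtain ⟨g, hg⟩ := MulAction.exists_smul_eq L Q P
  have hg' : (g : G) ∈ L := g.2
  obtain ⟨t, ht, o, ho, hto⟩ : ∃ t ∈ T, ∃ o ∈ O, t * o = g := by
    have hmem : (g : G) ∈ ((T : Set G) * (O : Set G)) := by rw [← Subgroup.mul_normal]; exact hg'
    obtain ⟨t, ht, o, ho, hto⟩ := hmem
    exact ⟨t, ht, o, ho, hto⟩
  -- the Sylow subgroups of `L` above `T` are contained in `T`
  have hPT : ∀ y : L, y ∈ (P : Subgroup L) → (y : G) ∈ T := by
    intro y hy
    obtain ⟨t', ht', o', ho', hto'⟩ : ∃ t ∈ T, ∃ o ∈ O, t * o = (y : G) := by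
      have hmem : (y : G) ∈ ((T : Set G) * (O : Set G)) := by rw [← Subgroup.mul_normal]; exact y.2
      obtain ⟨t, ht, o, ho, hto⟩ := hmem
      exact ⟨t, ht, o, ho, hto⟩
    have hoy : (⟨t', hTL ht'⟩ : L)⁻¹ * y ∈ (P : Subgroup L) :=
      mul_mem (inv_mem (hP (show (⟨t', hTL ht'⟩ : L) ∈ T.subgroupOf L from ht'))) hy
    obtain ⟨k, hk⟩ := P.2 ⟨_, hoy⟩
    have hk' : o' ^ 2 ^ k = 1 := by
      have := congrArg (fun z : (P : Subgroup L) => ((z : L) : G)) hk
      simp only [SubmonoidClass.coe_pow, OneMemClass.coe_one, Subgroup.coe_mul, InvMemClass.coe_inv] at this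
      rwa [← hto', inv_mul_cancel_left] at this
    have : o' = 1 := orderOf_eq_one_iff.1 (Nat.eq_one_of_dvd_coprimes (hO.symm.pow_left k)
      (orderOf_dvd_of_pow_eq_one hk') (Subgroup.orderOf_dvd_natCard O ho'))
    rw [← hto', this, mul_one]
    exact ht'
  refine ⟨o, ho, fun x hx => ?_⟩
  have h1 : g * ⟨x, hUle hx⟩ * g⁻¹ ∈ (P : Subgroup L) := by
    rw [← hg, Sylow.coe_subgroup_smul, Subgroup.mem_pointwise_smul_iff_inv_smul_mem]
    have : (MulAut.conj g)⁻¹ • (g * ⟨x, hUle hx⟩ * g⁻¹) = (⟨x, hUle hx⟩ : L) := by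
      simp only [MulAut.smul_def, MulAut.conj_inv_apply]; group
    rw [this]
    exact hQ (show (⟨x, hUle hx⟩ : L) ∈ U.subgroupOf L from hx)
  have h2 := hPT _ h1
  simp only [Subgroup.coe_mul, InvMemClass.coe_inv] at h2
  rw [← hto] at h2
  have h3 := mul_mem (mul_mem (inv_mem ht) h2) ht
  convert h3 using 1
  group

end CfsgLib.FpfSymThree
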