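import Cfsg.Agent.Lib.FpfSymThree.Basic
import Cfsg.Agent.S0215

/-!
Strongly closed elementary abelian 2-subgroups carrying an operator of order three without fixed points
that commutes with the induced automorphisms.
-/

set_option autoImplicit false
set_option linter.style.haveILetI false

namespace CfsgLib.FpfSymThree

open Cfsg
open scoped Pointwise

universe u v

/-- An element mapping a subgroup of a finite group into itself normalises it. -/
theorem mem_normalizer_of_conj {X : Type u} [Group X] [Finite X] {A : Subgroup X} {g : X}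
    (h : ∀ a ∈ A, g * a * g⁻¹ ∈ A) : g ∈ Subgroup.normalizer (A : Set X) := by
  refine Subgroup.mem_normalizer_iff.2 fun x => ⟨h x, fun hx => ?_⟩
  obtain ⟨⟨y, hy⟩, hyx⟩ := Finite.surjective_of_injective
    (f := fun a : A => (⟨g * a * g⁻¹, h a a.2⟩ : A))
    (fun a b hab => Subtype.ext (mul_left_cancel (mul_right_cancel (congrArg Subtype.val hab)))) ⟨_, hx⟩
  have := congrArg Subtype.val hyx
  simp only at this
  rwa [← mul_left_cancel (mul_right_cancel this)]

/-- The data. -/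
structure Datum {X : Type u} [Group X] (A : Subgroup X) (f : X → X) : Prop where
  comm : ∀ a ∈ A, ∀ b ∈ A, a * b = b * a
  exp : ∀ a ∈ A, a * a = 1
  closed : ∃ S : Sylow 2 X, A ≤ (S : Subgroup X) ∧ ∀ a ∈ A, ∀ g, g * a * g⁻¹ ∈ (S : Subgroup X) → g * a * g⁻¹ ∈ A
  mem : ∀ a ∈ A, f a ∈ A
  mul : ∀ a ∈ A, ∀ b ∈ A, f (a * b) = f a * f b
  cube : ∀ a ∈ A, f (f (f a)) = a
  fpf : ∀ a ∈ A, f a = a → a = 1
  equiv : ∀ g ∈ Subgroup.normalizer (A : Set X), ∀ a ∈ A, f (g * a * g⁻¹) = g * f a * g⁻¹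

namespace Datum

variable {X : Type u} [Group X] [Finite X] {A : Subgroup X} {f : X → X}

theorem inv_eq (D : Datum A f) {a : X} (ha : a ∈ A) : a⁻¹ = a := inv_eq_of_mul_eq_one_right (D.exp a ha)

theorem isPGroup (D : Datum A f) : IsPGroup 2 A := fun a => ⟨1, Subtype.ext (by
  simpa [sq] using D.exp a a.2)⟩

theorem f_one (D : Datum A f) : f 1 = 1 := by
  have h := D.mul 1 A.one_mem 1 A.one_mem
  rw [one_mul] at h
  exact mul_eq_left.1 h.symm

theorem closed_two (D : Datum A f) {T : Subgroup X} (hT : IsPGroup 2 T) (hAT : A ≤ T) {a g : X} (ha : a ∈ A)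
    (hg : g * a * g⁻¹ ∈ T) : g * a * g⁻¹ ∈ A := by
  haveI : Fact (Nat.Prime 2) := ⟨Nat.prime_two⟩
  obtain ⟨S, -, hS⟩ := D.closed
  obtain ⟨P, hP⟩ := hT.exists_le_sylow
  obtain ⟨y, hy⟩ := MulAction.exists_smul_eq X P S
  have hconj : ∀ t ∈ T, y * t * y⁻¹ ∈ (S : Subgroup X) := fun t ht => by
    rw [← hy, Sylow.coe_subgroup_smul]
    exact Subgroup.mem_pointwise_smul_iff_inv_smul_mem.2 (by
      simpa [MulAut.smul_def, mul_assoc] using hP ht)
  have hyA : y ∈ Subgroup.normalizer (A : Set X) :=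
    mem_normalizer_of_conj fun b hb => hS b hb y (hconj b (hAT hb))
  refine (Subgroup.mem_normalizer_iff.1 hyA _).2 ?_
  have e : y * (g * a * g⁻¹) * y⁻¹ = (y * g) * a * (y * g)⁻¹ := by group
  rw [e]
  exact hS a ha _ (e ▸ hconj _ hg)

/-- Fusion in `A` is controlled by its normalizer. -/
theorem fusion (D : Datum A f) {a g : X} (ha : a ∈ A) (hga : g * a * g⁻¹ ∈ A) :
    ∃ n ∈ Subgroup.normalizer (A : Set X), n * a * n⁻¹ = g * a * g⁻¹ := by
  haveI : Fact (Nat.Prime 2) := ⟨Nat.prime_two⟩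
  set C := Subgroup.centralizer ({a} : Set X) with hC
  set B := A.map (MulAut.conj g⁻¹).toMonoidHom with hB
  have hAC : A ≤ C := fun b hb => Subgroup.mem_centralizer_singleton_iff.2 (D.comm b hb a ha)
  have hBC : B ≤ C := by
    rintro _ ⟨b, hb, rfl⟩
    refine Subgroup.mem_centralizer_singleton_iff.2 ?_
    have h := D.comm b hb _ hga
    simp only [MulEquiv.coe_toMonoidHom, MulAut.conj_apply, inv_inv]
    calc g⁻¹ * b * g * a = g⁻¹ * (b * (g * a * g⁻¹)) * g := by group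
      _ = g⁻¹ * (g * a * g⁻¹ * b) * g := by rw [h]
      _ = a * (g⁻¹ * b * g) := by group
  obtain ⟨P, hP⟩ := (D.isPGroup.of_equiv (Subgroup.subgroupOfEquivOfLe hAC).symm).exists_le_sylow
  obtain ⟨Q, hQ⟩ := ((D.isPGroup.map _).of_equiv (Subgroup.subgroupOfEquivOfLe hBC).symm).exists_le_sylow
  obtain ⟨c, hc⟩ := MulAction.exists_smul_eq C Q P
  have hm : (c : X) * g⁻¹ ∈ Subgroup.normalizer (A : Set X) := by
    refine mem_normalizer_of_conj fun b hb => ?_
    refine D.closed_two ((P.2).map C.subtype) (fun x hx => ⟨⟨x, hAC hx⟩, hP hx, rfl⟩) hb ?_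
    have hbB : g⁻¹ * b * g ∈ B := ⟨b, hb, by simp⟩
    refine ⟨c * ⟨_, hBC hbB⟩ * c⁻¹, ?_, ?_⟩
    · rw [← hc, SetLike.mem_coe, Sylow.coe_subgroup_smul, Subgroup.mem_pointwise_smul_iff_inv_smul_mem]
      have e : (MulAut.conj c)⁻¹ • (c * ⟨_, hBC hbB⟩ * c⁻¹) = (⟨_, hBC hbB⟩ : C) := by
        simp only [MulAut.smul_def, MulAut.conj_inv_apply]; group
      rw [e]
      exact hQ (show (⟨_, hBC hbB⟩ : C) ∈ B.subgroupOf C from hbB)
    · simp only [Subgroup.coe_subtype, Subgroup.coe_mul, InvMemClass.coe_inv]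
      group
  refine ⟨((c : X) * g⁻¹)⁻¹, inv_mem hm, ?_⟩
  have hca := Subgroup.mem_centralizer_singleton_iff.1 c.2
  calc ((c : X) * g⁻¹)⁻¹ * a * ((c : X) * g⁻¹)⁻¹⁻¹ = g * ((c : X)⁻¹ * (a * c)) * g⁻¹ := by group
    _ = g * ((c : X)⁻¹ * (c * a)) * g⁻¹ := by rw [hca]
    _ = g * a * g⁻¹ := by group

/-- An element of `A` is never conjugate to its image. -/
theorem not_conj (D : Datum A f) (h3 : ¬ 3 ∣ Nat.card X) {a : X} (ha : a ∈ A) (ha1 : a ≠ 1) (g : X) :
    g * a * g⁻¹ ≠ f a := by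
  intro hg
  obtain ⟨n, hn, hna⟩ := D.fusion ha (hg ▸ D.mem a ha)
  rw [hg] at hna
  have hit : ∀ k : ℕ, f^[k] a ∈ A ∧ n ^ k * a * (n ^ k)⁻¹ = f^[k] a := by
    intro k
    induction k with
    | zero => simp [ha]
    | succ k ih =>
      rw [Function.iterate_succ_apply']
      refine ⟨D.mem _ ih.1, ?_⟩
      rw [pow_succ]
      calc n ^ k * n * a * (n ^ k * n)⁻¹ = n ^ k * (n * a * n⁻¹) * (n ^ k)⁻¹ := by group
        _ = n ^ k * f a * (n ^ k)⁻¹ := by rw [hna]
        _ = f (n ^ k * a * (n ^ k)⁻¹) := (D.equiv _ (pow_mem hn k) a ha).symm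
        _ = _ := by rw [ih.2]
  have hper : ∀ m, f^[3 * m] a = a := fun m => by
    induction m with
    | zero => rfl
    | succ m ih =>
      rw [show 3 * (m + 1) = 3 + 3 * m by ring, Function.iterate_add_apply, ih]
      exact D.cube a ha
  have h0 : orderOf n % 3 ≠ 0 := fun h => h3 ((Nat.dvd_of_mod_eq_zero h).trans (orderOf_dvd_natCard n))
  have hk := (hit (orderOf n)).2
  rw [pow_orderOf_eq_one, one_mul, inv_one, mul_one] at hk
  rw [← Nat.mod_add_div (orderOf n) 3, Function.iterate_add_apply, hper] at hk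
  rcases (show orderOf n % 3 = 1 ∨ orderOf n % 3 = 2 by omega) with h | h <;> rw [h] at hk
  · exact ha1 (D.fpf a ha hk.symm)
  · refine ha1 (D.fpf a ha ?_)
    have := congrArg f hk
    simp only [Function.iterate_succ, Function.iterate_zero, id_eq, Function.comp] at this
    rw [D.cube a ha] at this
    exact this

/-- Elements fixed by the normalizer are central when the odd core is trivial. -/
theorem mem_center_of_fixed (D : Datum A f) (hO : pPrimeCore 2 X = ⊥) {a : X} (ha : a ∈ A)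
    (hfix : ∀ n ∈ Subgroup.normalizer (A : Set X), n * a * n⁻¹ = a) : a ∈ Subgroup.center X := by
  by_cases ha1 : a = 1
  · rw [ha1]; exact one_mem _
  obtain ⟨S, hAS, hS⟩ := D.closed
  obtain ⟨N, hN, hodd, hcom⟩ := Cfsg.Agent.S0215.result S a
    (orderOf_eq_prime (by rw [sq]; exact D.exp a ha) ha1) (hAS ha) fun g hg => by
      obtain ⟨n, hn, hna⟩ := D.fusion ha (hS a ha g hg)
      rw [← hna, hfix n hn]
  haveI := hN
  have hle : N ≤ ⊥ := hO ▸ le_pPrimeCore (Nat.coprime_two_right.2 hodd)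
  refine Subgroup.mem_center_iff.2 fun g => ?_
  have := hle (hcom g)
  rw [Subgroup.mem_bot, mul_inv_eq_one, mul_inv_eq_iff_eq_mul] at this
  exact this.symm

/-- Images. -/
theorem map {Y : Type v} [Group Y] [Finite Y] (D : Datum A f) (π : X →* Y) (hπ : Function.Surjective π)
    (hker : ∀ a ∈ A, π a = 1 → π (f a) = 1)
    (hlift : ∀ g, π g ∈ Subgroup.normalizer (A.map π : Set Y) →
      ∃ n ∈ Subgroup.normalizer (A : Set X), π n = π g)
    (hclosed : ∀ S : Sylow 2 X, A ≤ (S : Subgroup X) →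
      (∀ a ∈ A, ∀ g, g * a * g⁻¹ ∈ (S : Subgroup X) → g * a * g⁻¹ ∈ A) →
      ∀ a ∈ A, ∀ g, π (g * a * g⁻¹) ∈ (S : Subgroup X).map π → π (g * a * g⁻¹) ∈ A.map π)
    (hfpf : ∀ a ∈ A, π (f a) = π a → π a = 1) : ∃ f' : Y → Y, Datum (A.map π) f' := by
  classical
  haveI : Fact (Nat.Prime 2) := ⟨Nat.prime_two⟩
  let f' : Y → Y := fun y => if h : ∃ a ∈ A, π a = y then π (f h.choose) else 1
  have hf' : ∀ a ∈ A, f' (π a) = π (f a) := by
    intro a ha
    have h : ∃ b ∈ A, π b = π a := ⟨a, ha, rfl⟩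
    obtain ⟨hb, hba⟩ := h.choose_spec
    simp only [f', dif_pos h]
    set b := h.choose
    have h1 := hker _ (mul_mem (inv_mem hb) ha) (by rw [map_mul, map_inv, hba, inv_mul_cancel])
    rw [D.inv_eq hb, D.mul b hb a ha, map_mul] at h1
    have h2 : π (f b) * π (f b) = 1 := by rw [← map_mul, D.exp _ (D.mem b hb), map_one]
    exact (inv_eq_of_mul_eq_one_right h2).symm.trans (inv_eq_of_mul_eq_one_right h1)
  refine ⟨f', ?_, ?_, ?_, ?_, ?_, ?_, ?_, ?_⟩
  · rintro _ ⟨a, ha, rfl⟩ _ ⟨b, hb, rfl⟩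
    rw [← map_mul, ← map_mul, D.comm a ha b hb]
  · rintro _ ⟨a, ha, rfl⟩
    rw [← map_mul, D.exp a ha, map_one]
  · obtain ⟨S, hAS, hS⟩ := D.closed
    refine ⟨S.mapSurjective hπ, ?_, ?_⟩
    · rw [Sylow.coe_mapSurjective]; exact Subgroup.map_mono hAS
    · rintro _ ⟨a, ha, rfl⟩ y hy
      obtain ⟨g, rfl⟩ := hπ y
      rw [← map_inv, ← map_mul, ← map_mul] at hy ⊢
      exact hclosed S hAS hS a ha g (by rw [← Sylow.coe_mapSurjective hπ]; exact hy)
  · rintro _ ⟨a, ha, rfl⟩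
    rw [hf' a ha]; exact ⟨_, D.mem a ha, rfl⟩
  · rintro _ ⟨a, ha, rfl⟩ _ ⟨b, hb, rfl⟩
    rw [← map_mul, hf' _ (mul_mem ha hb), hf' a ha, hf' b hb, D.mul a ha b hb, map_mul]
  · rintro _ ⟨a, ha, rfl⟩
    rw [hf' a ha, hf' _ (D.mem a ha), hf' _ (D.mem _ (D.mem a ha)), D.cube a ha]
  · rintro _ ⟨a, ha, rfl⟩ he
    rw [hf' a ha] at he
    exact hfpf a ha he
  · rintro y hy _ ⟨a, ha, rfl⟩
    obtain ⟨g, rfl⟩ := hπ y
    obtain ⟨n, hn, hng⟩ := hlift g hy
    rw [hf' a ha, ← hng, ← map_inv, ← map_mul, ← map_mul,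
      hf' _ ((Subgroup.mem_normalizer_iff.1 hn a).1 ha), D.equiv n hn a ha, map_mul, map_mul]

/-- Restriction to a subgroup containing `A`. -/
theorem restrict (D : Datum A f) {H : Subgroup X} (hAH : A ≤ H) :
    ∃ f' : H → H, Datum (A.subgroupOf H) f' := by
  classical
  haveI : Fact (Nat.Prime 2) := ⟨Nat.prime_two⟩
  refine ⟨fun x => if h : (x : X) ∈ A then ⟨f x, hAH (D.mem x h)⟩ else 1, ?_⟩
  constructor
  · exact fun a ha b hb => Subtype.ext (D.comm a ha b hb)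
  · exact fun a ha => Subtype.ext (D.exp a ha)
  · obtain ⟨P, hP⟩ := (D.isPGroup.of_equiv (Subgroup.subgroupOfEquivOfLe hAH).symm).exists_le_sylow
    refine ⟨P, hP, fun a ha g hg => ?_⟩
    exact D.closed_two (P.2.map H.subtype) (fun x hx => ⟨⟨x, hAH hx⟩, hP hx, rfl⟩) ha
      (g := (g : X)) ⟨_, hg, by simp⟩
  · intro a ha
    simp only [dif_pos (show (a : X) ∈ A from ha)]
    exact D.mem _ ha
  · intro a ha b hb
    rw [Subgroup.mem_subgroupOf] at ha hb
    simp only [dif_pos ha, dif_pos hb, dif_pos (show ((a * b : H) : X) ∈ A from mul_mem ha hb)]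
    exact Subtype.ext (D.mul _ ha _ hb)
  · intro a ha
    rw [Subgroup.mem_subgroupOf] at ha
    simp only [dif_pos ha, dif_pos (D.mem _ ha), dif_pos (D.mem _ (D.mem _ ha))]
    exact Subtype.ext (D.cube _ ha)
  · intro a ha he
    rw [Subgroup.mem_subgroupOf] at ha
    simp only [dif_pos ha] at he
    exact Subtype.ext (D.fpf _ ha (congrArg Subtype.val he))
  · intro g hg a ha
    rw [Subgroup.mem_subgroupOf] at ha
    have hgX : (g : X) ∈ Subgroup.normalizer (A : Set X) := mem_normalizer_of_conj fun b hb =>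
      (Subgroup.mem_normalizer_iff.1 hg ⟨b, hAH hb⟩).1 hb
    have hm : ((g * a * g⁻¹ : H) : X) ∈ A := (Subgroup.mem_normalizer_iff.1 hgX _).1 ha
    simp only [dif_pos ha, dif_pos hm]
    exact Subtype.ext (D.equiv _ hgX _ ha)

end Datum

end CfsgLib.FpfSymThree
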