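import Cfsg.Agent.Lib.FpfSymThree.TwoClass
import Cfsg.Agent.Lib.ClassTwoSylow
import Cfsg.Agent.Lib.FrobAction.QGroupModule
import Cfsg.Agent.Lib.S3Free.Fusion
import Cfsg.Agent.S1997
import Cfsg.Agent.S3779
import Cfsg.Agent.S0205

/-!
Groups of order prime to three with two automorphisms generating a fixed-point-free symmetric group of degree
three: solvable, with a normal Sylow 2-subgroup modulo the odd core, covered with it by the fixed points of the
automorphism of order three.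
-/

set_option autoImplicit false
set_option linter.style.haveILetI false

namespace CfsgLib.FpfSymThree

open Cfsg
open scoped Pointwise

universe u

section

variable {G : Type u} [Group G] [Finite G]

/-- An automorphism restricted to an invariant subgroup. -/
noncomputable def res (φ : MulAut G) (H : Subgroup G) (hH : ∀ x ∈ H, φ x ∈ H) : MulAut H :=
  MulEquiv.ofBijective ((φ.toMonoidHom.comp H.subtype).codRestrict H fun x => hH x x.2)
    (Finite.injective_iff_bijective.1 fun _ _ h => Subtype.ext (φ.injective (congrArg Subtype.val h)))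

theorem coe_res (φ : MulAut G) (H : Subgroup G) (hH : ∀ x ∈ H, φ x ∈ H) (x : H) :
    ((res φ H hH x : H) : G) = φ x := rfl

/-- An automorphism on the quotient by an invariant normal subgroup. -/
noncomputable def quot (φ : MulAut G) (N : Subgroup G) [N.Normal] (hN : ∀ x ∈ N, φ x ∈ N) : MulAut (G ⧸ N) :=
  MulEquiv.ofBijective (QuotientGroup.map N N φ.toMonoidHom fun x hx => hN x hx)
    (Finite.surjective_iff_bijective.1 fun y => by
      obtain ⟨x, rfl⟩ := QuotientGroup.mk'_surjective N y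
      exact ⟨QuotientGroup.mk' N (φ.symm x), congrArg (QuotientGroup.mk' N) (φ.apply_symm_apply x)⟩)

theorem quot_mk (φ : MulAut G) (N : Subgroup G) [N.Normal] (hN : ∀ x ∈ N, φ x ∈ N) (x : G) :
    quot φ N hN (QuotientGroup.mk' N x) = QuotientGroup.mk' N (φ x) := rfl

theorem inv_core (φ : MulAut G) : ∀ x ∈ pPrimeCore 2 G, φ x ∈ pPrimeCore 2 G := fun x hx =>
  CfsgLib.pPrimeCore_map_equiv 2 φ ▸ ⟨x, hx, rfl⟩

theorem inv_pCore (φ : MulAut G) : ∀ x ∈ pCore 2 G, φ x ∈ pCore 2 G := fun x hx =>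
  CfsgLib.pCore_map_equiv 2 φ ▸ ⟨x, hx, rfl⟩

theorem inv_surj (φ : MulAut G) {H : Subgroup G} (hH : ∀ x ∈ H, φ x ∈ H) {y : G} (hy : y ∈ H) :
    ∃ x ∈ H, φ x = y := by
  obtain ⟨x, hx⟩ := (res φ H hH).surjective ⟨y, hy⟩
  exact ⟨x, x.2, congrArg Subtype.val hx⟩

theorem inv_normalizer (φ : MulAut G) {H : Subgroup G} (hH : ∀ x ∈ H, φ x ∈ H) :
    ∀ x ∈ Subgroup.normalizer (H : Set G), φ x ∈ Subgroup.normalizer (H : Set G) := fun x hx =>
  mem_normalizer_of_conj fun a ha => by
    obtain ⟨b, hb, rfl⟩ := inv_surj φ hH ha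
    rw [← map_inv, ← map_mul, ← map_mul]
    exact hH _ ((Subgroup.mem_normalizer_iff.1 hx b).1 hb)

/-- The central elements of order dividing two of a subgroup. -/
def zOmega (P : Subgroup G) : Subgroup G where
  carrier := {x | x ∈ P ∧ (∀ y ∈ P, x * y = y * x) ∧ x * x = 1}
  one_mem' := ⟨P.one_mem, fun y _ => by rw [one_mul, mul_one], one_mul 1⟩
  mul_mem' := by
    rintro a b ⟨ha, hac, ha2⟩ ⟨hb, hbc, hb2⟩
    refine ⟨P.mul_mem ha hb, fun y hy => by rw [mul_assoc, hbc y hy, ← mul_assoc, hac y hy, mul_assoc], ?_⟩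
    calc a * b * (a * b) = a * (b * a) * b := by group
      _ = a * (a * b) * b := by rw [hbc a ha]
      _ = a * a * (b * b) := by group
      _ = 1 := by rw [ha2, hb2, one_mul]
  inv_mem' := by
    rintro a ⟨ha, hac, ha2⟩
    rw [inv_eq_of_mul_eq_one_right ha2]
    exact ⟨ha, hac, ha2⟩

theorem omegaOne_eq_zOmega (P : Subgroup G) : omegaOne 2 (P ⊓ Subgroup.centralizer (P : Set G)) = zOmega P := by
  refine le_antisymm ((Subgroup.closure_le _).2 ?_) fun x hx => Subgroup.subset_closure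
    ⟨⟨hx.1, Subgroup.mem_centralizer_iff.2 fun y hy => (hx.2.1 y hy).symm⟩, by rw [sq]; exact hx.2.2⟩
  rintro x ⟨⟨hx, hxc⟩, hx2⟩
  exact ⟨hx, fun y hy => (Subgroup.mem_centralizer_iff.1 hxc y hy).symm, by rw [← sq]; exact hx2⟩

theorem inv_zOmega (φ : MulAut G) {P : Subgroup G} (hP : ∀ x ∈ P, φ x ∈ P) :
    ∀ x ∈ zOmega P, φ x ∈ zOmega P := by
  rintro x ⟨hx, hxc, hx2⟩
  refine ⟨hP x hx, fun y hy => ?_, by rw [← map_mul, hx2, map_one]⟩
  obtain ⟨b, hb, rfl⟩ := inv_surj φ hP hy
  rw [← map_mul, ← map_mul, hxc b hb]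

theorem zOmega_ne_bot {P : Subgroup G} (hP : IsPGroup 2 P) (hne : P ≠ ⊥) : zOmega P ≠ ⊥ := by
  haveI : Fact (Nat.Prime 2) := ⟨Nat.prime_two⟩
  haveI : Nontrivial P := P.nontrivial_iff_ne_bot.2 hne
  haveI := hP.center_nontrivial
  obtain ⟨m, hm, hc⟩ := (hP.to_subgroup (Subgroup.center P)).nontrivial_iff_card.1 inferInstance
  obtain ⟨z, hz⟩ := exists_prime_orderOf_dvd_card' (G := Subgroup.center P) 2 (hc ▸ dvd_pow_self 2 hm.ne')
  intro h
  have hmem : ((z : P) : G) ∈ zOmega P := by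
    refine ⟨(z : P).2, fun y hy => (congrArg Subtype.val (Subgroup.mem_center_iff.1 z.2 ⟨y, hy⟩)).symm, ?_⟩
    have h2 : z * z = 1 := by rw [← sq, ← hz, pow_orderOf_eq_one]
    exact congrArg (fun w : Subgroup.center P => ((w : P) : G)) h2
  rw [h, Subgroup.mem_bot] at hmem
  have : z = 1 := Subtype.ext (Subtype.ext hmem)
  rw [this, orderOf_one] at hz
  exact absurd hz (by norm_num)

/-- A 2-subgroup lies in every normal subgroup of odd index. -/
theorem le_of_odd_index {N T : Subgroup G} [N.Normal] (hN : ¬ 2 ∣ N.index) (hT : IsPGroup 2 T) : T ≤ N := by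
  intro x hx
  obtain ⟨k, hk⟩ := hT ⟨x, hx⟩
  have hk' : x ^ 2 ^ k = 1 := congrArg Subtype.val hk
  refine (QuotientGroup.eq_one_iff x).1 (orderOf_eq_one_iff.1 (Nat.eq_one_of_dvd_coprimes
    ((((Nat.Prime.coprime_iff_not_dvd Nat.prime_two).2 hN)).pow_left k)
    (orderOf_dvd_of_pow_eq_one ?_) ?_))
  · rw [← QuotientGroup.mk_pow, hk', QuotientGroup.mk_one]
  · rw [Subgroup.index_eq_card]
    exact orderOf_dvd_natCard (x : G ⧸ N)

/-- The preimage of the 2-core of the quotient by the odd core lies in the product of a Sylow 2-subgroup and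
the odd core. -/
theorem pPrimePCore_le_sylow_sup (S : Sylow 2 G) : pPrimePCore 2 G ≤ (S : Subgroup G) ⊔ pPrimeCore 2 G := by
  haveI : Fact (Nat.Prime 2) := ⟨Nat.prime_two⟩
  have h := Subgroup.comap_mono (f := QuotientGroup.mk' (pPrimeCore 2 G))
    (CfsgLib.pCore_le_sylow (S.mapSurjective (QuotientGroup.mk'_surjective (pPrimeCore 2 G))))
  rw [Sylow.coe_mapSurjective, Subgroup.comap_map_eq, QuotientGroup.ker_mk'] at h
  exact h

theorem pPrimePCore_of_core_bot (h : pPrimeCore 2 G = ⊥) : pPrimePCore 2 G = pCore 2 G := by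
  let e : G ≃* G ⧸ pPrimeCore 2 G := MulEquiv.ofBijective (QuotientGroup.mk' _)
    ⟨(MonoidHom.ker_eq_bot_iff _).1 (by rw [QuotientGroup.ker_mk', h]), QuotientGroup.mk'_surjective _⟩
  rw [pPrimePCore, ← CfsgLib.pCore_map_equiv 2 e]
  exact Subgroup.comap_map_eq_self_of_injective e.injective _

theorem centralizer_pCore_quotient_of_core_bot (h : pPrimeCore 2 G = ⊥)
    (hC : Subgroup.centralizer (pCore 2 G : Set G) ≤ pCore 2 G) :
    Subgroup.centralizer (pCore 2 (G ⧸ pPrimeCore 2 G) : Set (G ⧸ pPrimeCore 2 G)) ≤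
      pCore 2 (G ⧸ pPrimeCore 2 G) := by
  let e : G ≃* G ⧸ pPrimeCore 2 G := MulEquiv.ofBijective (QuotientGroup.mk' _)
    ⟨(MonoidHom.ker_eq_bot_iff _).1 (by rw [QuotientGroup.ker_mk', h]), QuotientGroup.mk'_surjective _⟩
  rw [← CfsgLib.pCore_map_equiv 2 e]
  intro q hq
  obtain ⟨x, rfl⟩ := e.surjective q
  refine ⟨x, hC (Subgroup.mem_centralizer_iff.2 fun y hy => e.injective ?_), rfl⟩
  rw [map_mul, map_mul]
  exact Subgroup.mem_centralizer_iff.1 hq (e y) ⟨y, hy, rfl⟩

/-- The hypothesis on the two automorphisms. -/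
structure Triple (σ τ : MulAut G) : Prop where
  cube : ∀ x, σ (σ (σ x)) = x
  sq : ∀ x, τ (τ x) = x
  rel : ∀ x, τ (σ (τ x)) = σ (σ x)
  fpf : ∀ x, σ x = x → τ x = x → x = 1

namespace Triple

variable {σ τ : MulAut G}

theorem swap (T : Triple σ τ) (x : G) : σ (τ x) = τ (σ (σ x)) := by
  conv_lhs => rw [← T.sq (σ (τ x))]
  rw [T.rel]

theorem fixed_tau (T : Triple σ τ) {x : G} (hx : σ x = x) : σ (τ x) = τ x := by rw [T.swap, hx, hx]

theorem tau_inverts (T : Triple σ τ) {x : G} (hx : σ x = x) : τ x = x⁻¹ := by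
  let C : Subgroup G :=
    { carrier := {y | σ y = y}
      one_mem' := map_one σ
      mul_mem' := fun {a b} ha hb => show σ (a * b) = a * b by rw [map_mul, ha, hb]
      inv_mem' := fun {a} ha => show σ a⁻¹ = a⁻¹ by rw [map_inv, ha] }
  let f : C → C := fun y => ⟨(y : G)⁻¹ * τ y, C.mul_mem (C.inv_mem y.2) (T.fixed_tau y.2)⟩
  have hf : Function.Injective f := fun a b h => by
    have h' : (a : G)⁻¹ * τ a = (b : G)⁻¹ * τ b := congrArg Subtype.val h
    refine Subtype.ext (mul_inv_eq_one.1 (T.fpf _ (C.mul_mem a.2 (C.inv_mem b.2)) ?_))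
    have h2 : τ a = (a : G) * ((b : G)⁻¹ * τ b) := by rw [← h', mul_inv_cancel_left]
    rw [map_mul, map_inv, h2]
    group
  obtain ⟨y, hy⟩ := (Finite.injective_iff_bijective.1 hf).2 ⟨x, hx⟩
  have hy' : (y : G)⁻¹ * τ y = x := congrArg Subtype.val hy
  rw [← hy', map_mul, map_inv, T.sq]
  group

theorem odd_fixed (T : Triple σ τ) {x : G} (hx : σ x = x) : Odd (orderOf x) := by
  rw [Nat.odd_iff, ← Nat.two_dvd_ne_zero]
  intro h
  set y := x ^ (orderOf x / 2) with hy
  have hy2 : orderOf y = 2 := orderOf_pow_orderOf_div (orderOf_pos x).ne' h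
  have hys : σ y = y := by rw [hy, map_pow, hx]
  have h1 : y * y = 1 := by rw [← pow_two, ← hy2, pow_orderOf_eq_one]
  have : y = 1 := T.fpf y hys (by rw [T.tau_inverts hys, inv_eq_of_mul_eq_one_right h1])
  rw [this, orderOf_one] at hy2
  omega

theorem fixed_eq_one (T : Triple σ τ) {P : Subgroup G} (hP : IsPGroup 2 P) {x : G} (hxP : x ∈ P) (hx : σ x = x) :
    x = 1 := by
  obtain ⟨k, hk⟩ := hP ⟨x, hxP⟩
  exact orderOf_eq_one_iff.1 (Nat.eq_one_of_dvd_coprimes
    ((Nat.coprime_two_left.2 (T.odd_fixed hx)).pow_left k)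
    (orderOf_dvd_of_pow_eq_one (congrArg Subtype.val hk)) dvd_rfl)

theorem res (T : Triple σ τ) (H : Subgroup G) (hs : ∀ x ∈ H, σ x ∈ H) (ht : ∀ x ∈ H, τ x ∈ H) :
    Triple (FpfSymThree.res σ H hs) (FpfSymThree.res τ H ht) where
  cube x := Subtype.ext (T.cube x)
  sq x := Subtype.ext (T.sq x)
  rel x := Subtype.ext (T.rel x)
  fpf x h1 h2 := Subtype.ext (T.fpf x (congrArg Subtype.val h1) (congrArg Subtype.val h2))

theorem quot (T : Triple σ τ) (h3 : ¬ 3 ∣ Nat.card G) (N : Subgroup G) [N.Normal] (hs : ∀ x ∈ N, σ x ∈ N)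
    (ht : ∀ x ∈ N, τ x ∈ N) :
    Triple (FpfSymThree.quot σ N hs) (FpfSymThree.quot τ N ht) where
  cube y := by
    obtain ⟨x, rfl⟩ := QuotientGroup.mk'_surjective N y
    simp only [quot_mk, T.cube]
  sq y := by
    obtain ⟨x, rfl⟩ := QuotientGroup.mk'_surjective N y
    simp only [quot_mk, T.sq]
  rel y := by
    obtain ⟨x, rfl⟩ := QuotientGroup.mk'_surjective N y
    simp only [quot_mk, T.rel]
  fpf y h1 h2 := by
    obtain ⟨x, rfl⟩ := QuotientGroup.mk'_surjective N y
    rw [quot_mk] at h1 h2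
    obtain ⟨n, hn, hc⟩ := exists_fixed_coset σ T.cube hs (not_three_dvd_subgroup h3 N)
      (QuotientGroup.eq.1 h1.symm)
    set c := x * n with hcdef
    have e : QuotientGroup.mk' N c = QuotientGroup.mk' N x := by
      rw [hcdef, map_mul, show QuotientGroup.mk' N n = 1 from (QuotientGroup.eq_one_iff n).2 hn, mul_one]
    have e2 : QuotientGroup.mk' N (τ c) = QuotientGroup.mk' N c := by
      rw [← quot_mk τ N ht, e, quot_mk, h2]
    have h3' : c * c ∈ N := by
      rw [T.tau_inverts hc] at e2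
      have := QuotientGroup.eq.1 e2
      rwa [inv_inv] at this
    obtain ⟨l, hl⟩ := T.odd_fixed hc
    have h4 : c = (c * c) ^ (l + 1) := by
      rw [← pow_two, ← pow_mul, show 2 * (l + 1) = orderOf c + 1 by omega, pow_succ, pow_orderOf_eq_one, one_mul]
    rw [← e]
    exact (QuotientGroup.eq_one_iff c).2 (h4 ▸ N.pow_mem h3' _)

/-- A Sylow 2-subgroup invariant under both automorphisms exists. -/
theorem exists_sylow (T : Triple σ τ) (h3 : ¬ 3 ∣ Nat.card G) :
    ∃ S : Sylow 2 G, (∀ x ∈ (S : Subgroup G), σ x ∈ (S : Subgroup G)) ∧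
      ∀ x ∈ (S : Subgroup G), τ x ∈ (S : Subgroup G) := by
  haveI : Fact (Nat.Prime 2) := ⟨Nat.prime_two⟩
  obtain ⟨P₀, hP₀⟩ := exists_invariant_sylow σ T.cube h3 2
  let C : Subgroup G :=
    { carrier := {y | σ y = y}
      one_mem' := map_one σ
      mul_mem' := fun {a b} ha hb => show σ (a * b) = a * b by rw [map_mul, ha, hb]
      inv_mem' := fun {a} ha => show σ a⁻¹ = a⁻¹ by rw [map_inv, ha] }
  have hset : ∀ P : Sylow 2 G, σ • P = P ↔ P ∈ MulAction.orbit C P₀ := by
    intro P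
    constructor
    · intro hP
      obtain ⟨c, hc, hcP⟩ := sylow_conj_fixed σ T.cube h3 hP₀ hP
      exact ⟨⟨c, hc⟩, hcP⟩
    · rintro ⟨⟨c, hc⟩, rfl⟩
      apply Sylow.ext
      show σ • (MulAut.conj c • (P₀ : Subgroup G)) = MulAut.conj c • (P₀ : Subgroup G)
      rw [smul_smul]
      conv_rhs => rw [← congrArg (fun Q : Sylow 2 G => (Q : Subgroup G)) hP₀]
      rw [show (((σ • P₀ : Sylow 2 G)) : Subgroup G) = σ • (P₀ : Subgroup G) from rfl, smul_smul]
      congr 1
      refine MulEquiv.ext fun w => ?_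
      simp only [MulAut.mul_apply, MulAut.conj_apply, map_mul, map_inv, show σ c = c from hc]
  have hodd : ¬ 2 ∣ Nat.card (MulAction.orbit C P₀) := by
    intro h
    have h2 : 2 ∣ Nat.card C := h.trans ((Nat.card_congr (MulAction.orbitEquivQuotientStabilizer C P₀)) ▸
      Subgroup.index_dvd_card _)
    obtain ⟨z, hz⟩ := exists_prime_orderOf_dvd_card' (G := C) 2 h2
    have := T.odd_fixed (x := (z : G)) z.2
    rw [Subgroup.orderOf_coe, hz] at this
    exact absurd this (by decide)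
  have hτ : ∀ P : Sylow 2 G, P ∈ MulAction.orbit C P₀ → τ • P ∈ MulAction.orbit C P₀ := by
    intro P hP
    rw [← hset] at hP ⊢
    have e : σ * τ = τ * (σ * σ) := MulEquiv.ext fun x => T.swap x
    rw [← mul_smul, e, mul_smul, mul_smul, hP, hP]
  obtain ⟨⟨P, hP⟩, hPt⟩ := exists_fixed_two
    (fun P : MulAction.orbit C P₀ => (⟨τ • (P : Sylow 2 G), hτ P P.2⟩ : MulAction.orbit C P₀))
    (fun P => Subtype.ext (by
      show τ • τ • (P : Sylow 2 G) = P
      rw [← mul_smul, show τ * τ = 1 from MulEquiv.ext T.sq, one_smul])) hodd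
  refine ⟨P, fun x hx => ?_, fun x hx => ?_⟩
  · have h := congrArg (fun Q : Sylow 2 G => (Q : Subgroup G)) ((hset P).2 hP)
    exact h ▸ Subgroup.smul_mem_pointwise_smul x σ (P : Subgroup G) hx
  · have h := congrArg (fun Q : Sylow 2 G => (Q : Subgroup G)) (congrArg Subtype.val hPt)
    exact h ▸ Subgroup.smul_mem_pointwise_smul x τ (P : Subgroup G) hx

/-- An invariant Sylow 2-subgroup has class at most two. -/
theorem class_two_sylow (T : Triple σ τ) (S : Sylow 2 G) (hs : ∀ x ∈ (S : Subgroup G), σ x ∈ (S : Subgroup G)) :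
    Subgroup.lowerCentralSeries (S : Subgroup G) 2 = ⊥ := by
  have key : (⊤ : Subgroup (S : Subgroup G)).lowerCentralSeries 2 = ⊥ := by
    set α := FpfSymThree.res σ (S : Subgroup G) hs with hα
    have hfix : ∀ g : (S : Subgroup G), α g = g → g = 1 := fun g hg =>
      Subtype.ext (T.fixed_eq_one S.2 g.2 (congrArg Subtype.val hg))
    by_cases h1 : α = 1
    · have : Subsingleton (S : Subgroup G) := ⟨fun a b => by rw [hfix a (by rw [h1]; rfl), hfix b (by rw [h1]; rfl)]⟩
      exact Subsingleton.elim _ _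
    · haveI : Fact (Nat.Prime 3) := ⟨Nat.prime_three⟩
      have h3 : orderOf α = 3 := orderOf_eq_prime (MulEquiv.ext fun x => Subtype.ext (T.cube x)) h1
      exact (Cfsg.Agent.S3779.result Nat.prime_three α h3 hfix).2.1 rfl
  have h := congrArg (Subgroup.map (S : Subgroup G).subtype) key
  rw [Subgroup.map_bot, Subgroup.lowerCentralSeries_succ, Subgroup.lowerCentralSeries_succ,
    Subgroup.lowerCentralSeries_zero, Subgroup.map_commutator, Subgroup.map_commutator,
    ← MonoidHom.range_eq_map, Subgroup.range_subtype] at h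
  rw [Subgroup.lowerCentralSeries_succ, Subgroup.lowerCentralSeries_succ, Subgroup.lowerCentralSeries_zero]
  exact h

end Triple

/-- A group of order three acting without fixed points on an elementary abelian normal 2-subgroup `V` acts, on an
invariant `q`-subgroup for an odd `q`, trivially modulo the centraliser of `V`. -/
theorem shift_centralizes {σ : MulAut G} (hσ : ∀ x, σ (σ (σ x)) = x) {q : ℕ} [Fact q.Prime] (hq2 : q ≠ 2)
    (hq3 : q ≠ 3) {P V : Subgroup G} [V.Normal] (hP : IsPGroup q P) (hPinv : ∀ x ∈ P, σ x ∈ P)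
    (hVinv : ∀ x ∈ V, σ x ∈ V) (hVc : ∀ a ∈ V, ∀ b ∈ V, a * b = b * a) (hV2 : ∀ a ∈ V, a * a = 1)
    (hVfix : ∀ a ∈ V, σ a = a → a = 1) :
    ∀ a ∈ P, σ a * a⁻¹ ∈ Subgroup.centralizer (V : Set G) := by
  by_cases h1 : σ = 1
  · intro a _
    rw [h1, MulAut.one_apply, mul_inv_cancel]
    exact one_mem _
  haveI : Fact (Nat.Prime 3) := ⟨Nat.prime_three⟩
  haveI : Fact (Nat.Prime 2) := ⟨Nat.prime_two⟩
  set Z := Subgroup.zpowers σ with hZ
  have hord : orderOf σ = 3 := orderOf_eq_prime (MulEquiv.ext hσ) h1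
  let H := SemidirectProduct G Z Z.subtype
  haveI : Finite H := Finite.of_equiv _ SemidirectProduct.equivProd.symm
  set il : G →* H := SemidirectProduct.inl with hil
  set ir : Z →* H := SemidirectProduct.inr with hir
  have haut : ∀ (z : Z) (x : G), il ((z : MulAut G) x) = ir z * il x * (ir z)⁻¹ := fun z x => by
    rw [hil, hir, ← map_inv]
    exact SemidirectProduct.inl_aut z x
  have hpow : ∀ (K : Subgroup G), (∀ x ∈ K, σ x ∈ K) → ∀ z : Z, ∀ x ∈ K, (z : MulAut G) x ∈ K := by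
    intro K hK z x hx
    obtain ⟨k, hk⟩ : ∃ k : ℕ, σ ^ k = z := by
      obtain ⟨k, hk⟩ := mem_powers_iff_mem_zpowers.2 z.2
      exact ⟨k, hk⟩
    rw [← hk]
    clear hk
    induction k with
    | zero => simpa using hx
    | succ k ih => rw [pow_succ', MulAut.mul_apply]; exact hK _ ih
  have hnorm : ∀ (K : Subgroup G), (∀ x ∈ K, σ x ∈ K) → ir.range ≤ Subgroup.normalizer (K.map il : Set H) := by
    rintro K hK _ ⟨z, rfl⟩
    refine mem_normalizer_of_conj ?_
    rintro _ ⟨x, hx, rfl⟩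
    exact ⟨(z : MulAut G) x, hpow K hK z x hx, haut z x⟩
  haveI : IsMulCommutative (V.map il) := ⟨⟨by
    rintro ⟨_, a, ha, rfl⟩ ⟨_, b, hb, rfl⟩
    apply Subtype.ext
    show il a * il b = il b * il a
    rw [← map_mul, ← map_mul, hVc a ha b hb]⟩⟩
  have hinj : Function.Injective il := SemidirectProduct.inl_injective
  intro a ha
  have h := CfsgLib.QGroupModule.commutator_centralizes (p := 2) (q := q) (r := 3) hq2.symm (by norm_num) hq3
    ir.range (P.map il) (V.map il) (by
      rw [Nat.card_congr (MonoidHom.ofInjective SemidirectProduct.inr_injective).toEquiv.symm, hZ,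
        Nat.card_zpowers, hord])
    (hP.map il) (by rintro _ ⟨v, hv, rfl⟩; rw [← map_pow, sq, hV2 v hv, map_one])
    (hnorm P hPinv) (hnorm V hVinv)
    (by
      rintro _ ⟨g, _, rfl⟩
      refine mem_normalizer_of_conj ?_
      rintro _ ⟨v, hv, rfl⟩
      exact ⟨g * v * g⁻¹, (inferInstance : V.Normal).conj_mem v hv g, by simp⟩)
    (by
      rw [eq_bot_iff]
      rintro _ ⟨⟨v, hv, rfl⟩, hc⟩
      rw [Subgroup.mem_bot]
      have h := Subgroup.mem_centralizer_iff.1 hc (ir ⟨σ, Subgroup.mem_zpowers σ⟩) ⟨_, rfl⟩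
      have h' := haut ⟨σ, Subgroup.mem_zpowers σ⟩ v
      rw [h, mul_inv_cancel_right] at h'
      rw [hVfix v hv (hinj h'), map_one])
    (fun e => absurd e hq2) (ir ⟨σ, Subgroup.mem_zpowers σ⟩) ⟨_, rfl⟩ (il a) ⟨a, ha, rfl⟩
  rw [← haut ⟨σ, Subgroup.mem_zpowers σ⟩ a, ← map_inv, ← map_mul] at h
  refine Subgroup.mem_centralizer_iff.2 fun v hv => hinj ?_
  rw [map_mul, map_mul]
  exact Subgroup.mem_centralizer_iff.1 h (il v) ⟨v, hv, rfl⟩

/-- The conclusion. -/
def Concl (G : Type u) [Group G] (σ : MulAut G) : Prop :=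
  Group.IsSolvable G ∧ ¬ 2 ∣ (pPrimePCore 2 G).index ∧ ∀ g, ∃ c, σ c = c ∧ g * c ∈ pPrimePCore 2 G

/-- Elements of a normal subgroup of odd order and a normal 2-subgroup commute. -/
theorem commute_core {M : Subgroup G} {B : Subgroup G} (hB2 : IsPGroup 2 B) (hBM : B ≤ M)
    (hBn : ∀ m ∈ M, ∀ b ∈ B, m * b * m⁻¹ ∈ B) {o b : G} (ho : o ∈ cop M) (hb : b ∈ B) : o * b = b * o := by
  have h1 : o * b * o⁻¹ * b⁻¹ ∈ B := B.mul_mem (hBn o (cop_le M ho) b hb) (B.inv_mem hb)
  have h2 : o * b * o⁻¹ * b⁻¹ ∈ cop M := by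
    have e : o * b * o⁻¹ * b⁻¹ = o * (b * o⁻¹ * b⁻¹) := by group
    rw [e]
    exact (cop M).mul_mem ho (cop_conj M (hBM hb) ((cop M).inv_mem ho))
  obtain ⟨k, hk⟩ := hB2.exists_card_eq
  have h3 := Subgroup.disjoint_def.1
    (Subgroup.disjoint_of_coprime_natCard (by rw [hk]; exact (card_cop M).symm.pow_left k)) h1 h2
  rwa [mul_inv_eq_one, mul_inv_eq_iff_eq_mul] at h3

/-- The elements of a subgroup containing an invariant Sylow 2-subgroup `S` whose conclusion holds: products of an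
element of `S`, one of the odd core and a fixed one; and they normalise `S` modulo the odd core. -/
theorem split_of_concl {σ : MulAut G} (S : Sylow 2 G) (M : Subgroup G) (hSM : (S : Subgroup G) ≤ M)
    (hinv : ∀ x ∈ M, σ x ∈ M) (hM : Concl M (res σ M hinv)) :
    (∀ g ∈ M, ∃ s ∈ (S : Subgroup G), ∃ o ∈ cop M, ∃ c ∈ M, σ c = c ∧ g = s * o * c) ∧
      ∀ g ∈ M, ∃ o ∈ cop M, o * g ∈ Subgroup.normalizer ((S : Subgroup G) : Set G) := by
  haveI : Fact (Nat.Prime 2) := ⟨Nat.prime_two⟩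
  obtain ⟨_, hidx, hcov⟩ := hM
  set S' : Sylow 2 M := S.subtype hSM
  have hle := pPrimePCore_le_sylow_sup S'
  have hS'mem : ∀ x : M, x ∈ (S' : Subgroup M) ↔ (x : G) ∈ (S : Subgroup G) := fun x => by
    rw [Sylow.coe_subtype]; rfl
  haveI hn : (pPrimePCore 2 M).Normal := by unfold pPrimePCore; infer_instance
  constructor
  · intro g hg
    obtain ⟨c, hc, hgc⟩ := hcov ⟨g, hg⟩
    obtain ⟨y, hy, z, hz, hyz⟩ := Subgroup.mem_sup_of_normal_right.1 (hle hgc)
    refine ⟨y, (hS'mem y).1 hy, z, ⟨z, hz, rfl⟩, (c : G)⁻¹, M.inv_mem c.2, ?_, ?_⟩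
    · rw [map_inv, show σ (c : G) = c from congrArg Subtype.val hc]
    · have := congrArg Subtype.val hyz
      simp only [Subgroup.coe_mul] at this
      rw [this, mul_inv_cancel_right]
  · intro g hg
    have hSP : (S' : Subgroup M) ≤ pPrimePCore 2 M := le_of_odd_index hidx S'.2
    obtain ⟨o, ho, hconj⟩ := conj_into_of_sup (card_pPrimeCore_coprime (G := M) 2) S'.2
      (S'.2.map (MulAut.conj (⟨g, hg⟩ : M)).toMonoidHom) (by
        refine le_trans ?_ hle
        rintro _ ⟨x, hx, rfl⟩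
        exact hn.conj_mem x (hSP hx) _)
    refine ⟨o, ⟨o, ho, rfl⟩, mem_normalizer_of_conj fun s hs => ?_⟩
    have := (hS'mem _).1 (hconj _ ⟨⟨s, hSM hs⟩, (hS'mem _).2 hs, rfl⟩)
    simpa [mul_assoc] using this

/-- Elements of a proper subgroup normalise the central involutions of a Sylow subgroup when the normal closure of
these is a 2-group. -/
theorem normalizes_zOmega {σ : MulAut G} (S : Sylow 2 G) (M : Subgroup G) (hSM : (S : Subgroup G) ≤ M)
    (hinv : ∀ x ∈ M, σ x ∈ M) (hM : Concl M (res σ M hinv)) {B : Subgroup G} (hB2 : IsPGroup 2 B) (hBM : B ≤ M)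
    (hBn : ∀ m ∈ M, ∀ b ∈ B, m * b * m⁻¹ ∈ B) (hZB : zOmega (S : Subgroup G) ≤ B) {g : G} (hg : g ∈ M) {z : G}
    (hz : z ∈ zOmega (S : Subgroup G)) : g * z * g⁻¹ ∈ zOmega (S : Subgroup G) := by
  obtain ⟨o, ho, hon⟩ := (split_of_concl S M hSM hinv hM).2 g hg
  have hconj : ∀ s ∈ (S : Subgroup G), (MulAut.conj (o * g)) s ∈ (S : Subgroup G) := fun s hs =>
    (Subgroup.mem_normalizer_iff.1 hon s).1 hs
  have h1 : (o * g) * z * (o * g)⁻¹ ∈ zOmega (S : Subgroup G) := inv_zOmega (MulAut.conj (o * g)) hconj z hz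
  have hc := commute_core hB2 hBM hBn ((cop M).inv_mem ho) (hZB h1)
  have e : g * z * g⁻¹ = o⁻¹ * ((o * g) * z * (o * g)⁻¹) * o := by group
  rw [e, hc, inv_mul_cancel_right]
  exact h1

end

/-- The main theorem. -/
theorem main : ∀ (n : ℕ) (G : Type u) [Group G] [Finite G] (σ τ : MulAut G), Nat.card G = n →
    ¬ 3 ∣ Nat.card G → Triple σ τ → Concl G σ := by
  intro n
  induction n using Nat.strong_induction_on with
  | _ n ih =>
  intro G _ _ σ τ hn h3 T
  haveI : Fact (Nat.Prime 2) := ⟨Nat.prime_two⟩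
  have hquot : ∀ (N : Subgroup G) [N.Normal] (hs : ∀ x ∈ N, σ x ∈ N), (∀ x ∈ N, τ x ∈ N) → N ≠ ⊥ →
      Concl (G ⧸ N) (quot σ N hs) := by
    intro N _ hs ht hN
    refine ih (Nat.card (G ⧸ N)) ?_ (G ⧸ N) _ (quot τ N ht) rfl
      (fun h => h3 (h.trans (Subgroup.card_quotient_dvd_card N))) (T.quot h3 N hs ht)
    rw [← hn, Subgroup.card_eq_card_quotient_mul_card_subgroup N]
    exact (lt_mul_iff_one_lt_right Nat.card_pos).2 (N.one_lt_card_iff_ne_bot.2 hN)
  have hsub : ∀ (M : Subgroup G) (hs : ∀ x ∈ M, σ x ∈ M), (∀ x ∈ M, τ x ∈ M) → M ≠ ⊤ →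
      Concl M (res σ M hs) := by
    intro M hs ht hM
    refine ih (Nat.card M) ?_ M _ (res τ M ht) rfl (not_three_dvd_subgroup h3 M) (T.res M hs ht)
    rw [← hn]
    exact lt_of_le_of_ne (Subgroup.card_le_card_group M) fun e => hM (Subgroup.eq_top_of_card_eq M e)
  have hlift : ∀ (N : Subgroup G) [N.Normal] (hs : ∀ x ∈ N, σ x ∈ N) (yq : G ⧸ N), quot σ N hs yq = yq →
      ∃ c, σ c = c ∧ QuotientGroup.mk' N c = yq := by
    intro N _ hs yq hyq
    obtain ⟨x, rfl⟩ := QuotientGroup.mk'_surjective N yq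
    rw [quot_mk] at hyq
    obtain ⟨m, hm, hc⟩ := exists_fixed_coset σ T.cube hs (not_three_dvd_subgroup h3 N) (QuotientGroup.eq.1 hyq.symm)
    exact ⟨x * m, hc, by
      rw [map_mul, show QuotientGroup.mk' N m = 1 from (QuotientGroup.eq_one_iff m).2 hm, mul_one]⟩
  by_cases hO : pPrimeCore 2 G = ⊥
  swap
  · obtain ⟨hsol, hidx, hcov⟩ := hquot (pPrimeCore 2 G) (inv_core σ) (inv_core τ) hO
    have hP : pPrimePCore 2 G = (pPrimePCore 2 (G ⧸ pPrimeCore 2 G)).comap (QuotientGroup.mk' _) := by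
      rw [pPrimePCore_of_core_bot (CfsgLib.pPrimeCore_quotient_eq_bot 2)]; rfl
    refine ⟨(Group.isSolvable_iff_subgroup_quotient (pPrimeCore 2 G)).mpr
      ⟨Cfsg.Agent.S0205.result (Nat.coprime_two_right.1 (card_pPrimeCore_coprime 2)), hsol⟩, ?_, fun g => ?_⟩
    · rw [hP, Subgroup.index_comap_of_surjective _ (QuotientGroup.mk'_surjective _)]
      exact hidx
    · obtain ⟨yq, hyq, hgy⟩ := hcov (QuotientGroup.mk' _ g)
      obtain ⟨c, hc, rfl⟩ := hlift _ (inv_core σ) yq hyq
      refine ⟨c, hc, ?_⟩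
      rw [hP, Subgroup.mem_comap, map_mul]
      exact hgy
  obtain ⟨S, hSσ, hSτ⟩ := T.exists_sylow h3
  have hPP := pPrimePCore_of_core_bot hO
  have hcore : ∀ (U : Subgroup G) [U.Normal], IsPGroup 2 U → U ≤ pCore 2 G := fun U _ h => CfsgLib.le_pCore h
  by_cases h2core : pCore 2 G = ⊥
  swap
  · -- the two-core is not trivial
    set O2 := pCore 2 G with hO2
    have hO2p : IsPGroup 2 O2 := CfsgLib.isPGroup_pCore 2
    set V := zOmega O2 with hV
    have hVO : V ≤ O2 := fun x hx => hx.1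
    haveI : V.Normal := ⟨fun x hx g => inv_zOmega (MulAut.conj g)
      (fun y hy => (inferInstance : O2.Normal).conj_mem y hy g) x hx⟩
    have hVσ : ∀ x ∈ V, σ x ∈ V := inv_zOmega σ (inv_pCore σ)
    have hVτ : ∀ x ∈ V, τ x ∈ V := inv_zOmega τ (inv_pCore τ)
    have hV2 : IsPGroup 2 V := hO2p.to_le hVO
    obtain ⟨hsol, hidx, hcov⟩ := hquot V hVσ hVτ (zOmega_ne_bot hO2p h2core)
    set π := QuotientGroup.mk' V with hπ
    have hπs : Function.Surjective π := QuotientGroup.mk'_surjective V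
    set K := (pPrimeCore 2 (G ⧸ V)).comap π with hK
    haveI : K.Normal := by rw [hK]; infer_instance
    have hKσ : ∀ x ∈ K, σ x ∈ K := fun x hx => by
      rw [hK, Subgroup.mem_comap, hπ, ← quot_mk σ V hVσ]
      exact inv_core _ _ hx
    have hVK : V ≤ K := fun x hx => by
      rw [hK, Subgroup.mem_comap, show π x = 1 from (QuotientGroup.eq_one_iff x).2 hx]
      exact one_mem _
    have hrel : ¬ 2 ∣ V.relIndex K := by
      have : V.relIndex K = Nat.card (pPrimeCore 2 (G ⧸ V)) := by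
        rw [Subgroup.relIndex, show V.subgroupOf K = (π.comp K.subtype).ker by
            rw [← MonoidHom.comap_ker, hπ, QuotientGroup.ker_mk']; rfl,
          Subgroup.index_ker, MonoidHom.range_comp, Subgroup.range_subtype, hK,
          Subgroup.map_comap_eq_self_of_surjective hπs]
      rw [this]
      exact not_dvd_card_pPrimeCore Nat.prime_two
    have hVfix : ∀ a ∈ V, σ a = a → a = 1 := fun a ha h => T.fixed_eq_one hV2 ha h
    have hVc : ∀ a ∈ V, ∀ b ∈ V, a * b = b * a := fun a ha b hb => ha.2.1 b (hVO hb)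
    haveI hCn : (Subgroup.centralizer (V : Set G)).Normal := Subgroup.normal_centralizer
    -- the subgroup of elements shifted by elements centralising `V`
    let D : Subgroup G :=
      { carrier := {k | σ k * k⁻¹ ∈ Subgroup.centralizer (V : Set G)}
        one_mem' := show σ 1 * 1⁻¹ ∈ Subgroup.centralizer (V : Set G) by rw [map_one, inv_one, mul_one]; exact one_mem _
        mul_mem' := fun {a b} ha hb => by
          show σ (a * b) * (a * b)⁻¹ ∈ Subgroup.centralizer (V : Set G)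
          have e : σ (a * b) * (a * b)⁻¹ = (σ a * (σ b * b⁻¹) * (σ a)⁻¹) * (σ a * a⁻¹) := by
            rw [map_mul]; group
          rw [e]
          exact mul_mem (hCn.conj_mem _ hb (σ a)) ha
        inv_mem' := fun {a} ha => by
          show σ a⁻¹ * a⁻¹⁻¹ ∈ Subgroup.centralizer (V : Set G)
          have e : σ a⁻¹ * a⁻¹⁻¹ = (σ a)⁻¹ * (σ a * a⁻¹)⁻¹ * (σ a)⁻¹⁻¹ := by
            rw [map_inv]; group
          rw [e]
          exact hCn.conj_mem _ (inv_mem ha) _ }
    have hKD : K ≤ D := by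
      rw [← Subgroup.relIndex_eq_one]
      by_contra hne
      obtain ⟨q, hq, hqd⟩ := Nat.exists_prime_and_dvd hne
      haveI : Fact q.Prime := ⟨hq⟩
      rcases eq_or_ne q 2 with rfl | hq2
      · refine hrel (hqd.trans (Subgroup.relIndex_dvd_of_le_left K fun v hv => ?_))
        show σ v * v⁻¹ ∈ Subgroup.centralizer (V : Set G)
        exact Subgroup.mem_centralizer_iff.2 fun w hw =>
          (hVc _ (V.mul_mem (hVσ v hv) (V.inv_mem hv)) w hw).symm
      · obtain ⟨P, hP⟩ := exists_invariant_sylow (res σ K hKσ) (fun x => Subtype.ext (T.cube x))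
          (not_three_dvd_subgroup h3 K) q
        have hPinv : ∀ x ∈ (P : Subgroup K).map K.subtype, σ x ∈ (P : Subgroup K).map K.subtype := by
          rintro _ ⟨y, hy, rfl⟩
          exact ⟨res σ K hKσ y, (congrArg (fun Q : Sylow q K => (Q : Subgroup K)) hP) ▸
            Subgroup.smul_mem_pointwise_smul y (res σ K hKσ) (P : Subgroup K) hy, rfl⟩
        have hq3 : q ≠ 3 := by
          rintro rfl
          exact not_three_dvd_subgroup h3 K (hqd.trans (Subgroup.relIndex_dvd_card D K))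
        have hPD : (P : Subgroup K).map K.subtype ≤ D := shift_centralizes T.cube hq2 hq3
          (P.2.map K.subtype) hPinv hVσ hVc (fun a ha => ha.2.2) hVfix
        refine P.not_dvd_index (hqd.trans ?_)
        rw [Subgroup.relIndex]
        exact Subgroup.index_dvd_of_le fun x hx => hPD ⟨x, hx, rfl⟩
    have hCKV : K ⊓ Subgroup.centralizer (V : Set G) ≤ V := le_of_central_two hO
      (le_inf hVK fun v hv => Subgroup.mem_centralizer_iff.2 fun w hw => hVc w hw v hv) hV2
      (fun k hk f hf => (Subgroup.mem_centralizer_iff.1 hk.2 f hf).symm)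
      fun h => hrel (h.trans (Dvd.intro _ (Subgroup.relIndex_mul_relIndex V (K ⊓ Subgroup.centralizer (V : Set G)) K
        (le_inf hVK fun v hv => Subgroup.mem_centralizer_iff.2 fun w hw => hVc w hw v hv) inf_le_left)))
    have hshift : ∀ k ∈ K, σ k * k⁻¹ ∈ V := fun k hk =>
      hCKV ⟨K.mul_mem (hKσ k hk) (K.inv_mem hk), hKD hk⟩
    -- the Sylow subgroup is normal
    have hVS : V ≤ (S : Subgroup G) := hVO.trans (CfsgLib.pCore_le_sylow S)
    have hKS : ∀ t ∈ (S : Subgroup G), ∀ k ∈ K, t * k * t⁻¹ * k⁻¹ ∈ V := by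
      intro t ht k hk
      have hinj : Function.Injective (fun u : (S : Subgroup G) =>
          (⟨(u : G)⁻¹ * σ u, mul_mem (inv_mem u.2) (hSσ u u.2)⟩ : (S : Subgroup G))) := fun a b h => by
            have h' : (a : G)⁻¹ * σ a = (b : G)⁻¹ * σ b := congrArg Subtype.val h
            refine Subtype.ext (mul_inv_eq_one.1 (T.fixed_eq_one S.2 (mul_mem a.2 (inv_mem b.2)) ?_))
            have h2 : σ a = (a : G) * ((b : G)⁻¹ * σ b) := by rw [← h', mul_inv_cancel_left]
            rw [map_mul, map_inv, h2]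
            group
      obtain ⟨⟨u, hu⟩, hut⟩ := (Finite.injective_iff_bijective.1 hinj).2 ⟨t, ht⟩
      have hut' : u⁻¹ * σ u = t := congrArg Subtype.val hut
      have hk' : u * k * u⁻¹ ∈ K := (inferInstance : K.Normal).conj_mem k hk u
      have h1 := hshift _ hk'
      have h2 := hshift k hk
      have e : t * k * t⁻¹ * k⁻¹ = (t * (σ k * k⁻¹)⁻¹ * t⁻¹) *
          (u⁻¹ * (σ (u * k * u⁻¹) * (u * k * u⁻¹)⁻¹) * u⁻¹⁻¹) := by
        rw [← hut']
        simp only [map_mul, map_inv]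
        group
      rw [e]
      exact V.mul_mem ((inferInstance : V.Normal).conj_mem _ (V.inv_mem h2) t)
        ((inferInstance : V.Normal).conj_mem _ h1 _)
    set L := (pPrimePCore 2 (G ⧸ V)).comap π with hL
    haveI hppn : (pPrimePCore 2 (G ⧸ V)).Normal := by unfold pPrimePCore; infer_instance
    haveI : L.Normal := by rw [hL]; infer_instance
    have hLidx : ¬ 2 ∣ L.index := by rwa [hL, Subgroup.index_comap_of_surjective _ hπs]
    have hLle : L ≤ (S : Subgroup G) ⊔ K := by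
      have h := Subgroup.comap_mono (f := π) (pPrimePCore_le_sylow_sup (S.mapSurjective hπs))
      rw [Sylow.coe_mapSurjective] at h
      refine h.trans ?_
      rw [← Subgroup.map_comap_eq_self_of_surjective hπs (pPrimeCore 2 (G ⧸ V)), ← hK, ← Subgroup.map_sup,
        Subgroup.comap_map_eq, hπ, QuotientGroup.ker_mk']
      exact sup_le le_rfl (hVK.trans le_sup_right)
    have hSK : (S : Subgroup G) ⊔ K ≤ Subgroup.normalizer ((S : Subgroup G) : Set G) := sup_le Subgroup.le_normalizer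
      fun k hk => mem_normalizer_of_conj fun t ht => by
        have e : k * t * k⁻¹ = (t * k * t⁻¹ * k⁻¹)⁻¹ * t := by group
        rw [e]
        exact mul_mem (inv_mem (hVS (hKS t ht k hk))) ht
    have hSn : ∀ g : G, ∀ s ∈ (S : Subgroup G), g * s * g⁻¹ ∈ (S : Subgroup G) := by
      intro g s hs
      set U := (S : Subgroup G).map (MulAut.conj g).toMonoidHom with hU
      have hU2 : IsPGroup 2 U := S.2.map _
      have hUL : U ≤ Subgroup.normalizer ((S : Subgroup G) : Set G) :=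
        ((le_of_odd_index hLidx hU2).trans hLle).trans hSK
      have h := S.3 (IsPGroup.to_sup_of_normal_right' hU2 S.2 hUL) le_sup_right
      exact h ▸ Subgroup.mem_sup_left (show g * s * g⁻¹ ∈ U from ⟨s, hs, rfl⟩)
    haveI : (S : Subgroup G).Normal := ⟨fun s hs g => hSn g s hs⟩
    have hSO : O2 = (S : Subgroup G) := le_antisymm (CfsgLib.pCore_le_sylow S) (hcore _ S.2)
    refine ⟨(Group.isSolvable_iff_subgroup_quotient V).mpr ⟨by haveI := hV2.isNilpotent; infer_instance, hsol⟩,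
      ?_, fun g => ?_⟩
    · rw [hPP, hSO]; exact S.not_dvd_index
    · obtain ⟨yq, hyq, hgy⟩ := hcov (π g)
      obtain ⟨c, hc, rfl⟩ := hlift V hVσ yq hyq
      have hgc : g * c ∈ L := by rw [hL, Subgroup.mem_comap, map_mul]; exact hgy
      obtain ⟨t, ht, k, hk, htk⟩ := Subgroup.mem_sup_of_normal_right.1 (hLle hgc)
      obtain ⟨v, hv, hkv⟩ := exists_fixed_coset σ T.cube hVσ (not_three_dvd_subgroup h3 V) (x := k) (by
        have := (inferInstance : V.Normal).conj_mem _ (hshift k hk) k⁻¹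
        rw [show k⁻¹ * (σ k * k⁻¹) * k⁻¹⁻¹ = k⁻¹ * σ k by group] at this
        exact this)
      refine ⟨c * (k * v)⁻¹, by rw [map_mul, map_inv, hc, hkv], ?_⟩
      rw [hPP, hSO]
      have e : g * (c * (k * v)⁻¹) = t * (k * v⁻¹ * k⁻¹) := by
        calc g * (c * (k * v)⁻¹) = (g * c) * (k * v)⁻¹ := by group
          _ = t * k * (k * v)⁻¹ := by rw [htk]
          _ = _ := by group
      rw [e]
      exact mul_mem ht (hSn k _ (inv_mem (hVS hv)))
  -- both cores are trivial
  by_cases hS : (S : Subgroup G) = ⊥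
  · have h2 : ¬ 2 ∣ Nat.card G := fun h => by
      have := S.dvd_card_of_dvd_card h
      rw [hS, Subgroup.card_bot] at this
      exact absurd this (by norm_num)
    have htop : (⊤ : Subgroup G) ≤ ⊥ := hO ▸ CfsgLib.le_pPrimeCore (p := 2) (by
      rw [Subgroup.card_top]; exact ((Nat.Prime.coprime_iff_not_dvd Nat.prime_two).2 h2).symm)
    refine ⟨Cfsg.Agent.S0205.result (Nat.odd_iff.mpr (Nat.two_dvd_ne_zero.mp h2)),
      fun h => h2 (h.trans (Subgroup.index_dvd_card _)), fun g => ⟨1, map_one σ, ?_⟩⟩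
    rw [mul_one, show g = 1 from Subgroup.mem_bot.1 (htop (Subgroup.mem_top g))]
    exact one_mem _
  exfalso
  set Z := zOmega (S : Subgroup G) with hZdef
  have hZS : Z ≤ (S : Subgroup G) := fun x hx => hx.1
  have hZne : Z ≠ ⊥ := zOmega_ne_bot S.2 hS
  set W : ∀ (Q : Type u) [Group Q], Subgroup Q := CfsgLib.S3Free.thompsonFun with hW
  set J := thompsonSubgroupOf 2 (S : Subgroup G) with hJ
  have hJmap : ∀ φ : MulAut G, (∀ x ∈ (S : Subgroup G), φ x ∈ (S : Subgroup G)) → ∀ x ∈ J, φ x ∈ J := by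
    rintro φ hφ _ ⟨y, hy, rfl⟩
    exact ⟨res φ _ hφ y, CfsgLib.PLocal.thompsonSubgroup_map (res φ _ hφ) ▸ ⟨y, hy, rfl⟩, rfl⟩
  have hZJ : Z ≤ J := by
    intro x hx
    obtain ⟨A, hA, hmax⟩ := Set.exists_max_image {B : Subgroup (S : Subgroup G) | IsElementaryAbelian 2 B}
      (fun B => Nat.card B) (Set.toFinite _) ⟨⊥, ⟨inferInstance, fun a ha => by
        rw [Subgroup.mem_bot] at ha; rw [ha, one_pow]⟩⟩
    set x' : (S : Subgroup G) := ⟨x, hx.1⟩
    have hxc : ∀ y, x' * y = y * x' := fun y => Subtype.ext (hx.2.1 y y.2)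
    have hx2 : x' * x' = 1 := Subtype.ext hx.2.2
    have hAc : ∀ a ∈ A, ∀ b ∈ A, a * b = b * a := fun a ha b hb =>
      congrArg Subtype.val (hA.1.is_comm.comm ⟨a, ha⟩ ⟨b, hb⟩)
    let B : Subgroup (S : Subgroup G) :=
      { carrier := {a | a ∈ A ∨ a * x' ∈ A}
        one_mem' := Or.inl A.one_mem
        mul_mem' := fun {a b} ha hb => by
          rcases ha with ha | ha <;> rcases hb with hb | hb
          · exact Or.inl (A.mul_mem ha hb)
          · exact Or.inr (by rw [mul_assoc]; exact A.mul_mem ha hb)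
          · exact Or.inr (by rw [mul_assoc, ← hxc, ← mul_assoc]; exact A.mul_mem ha hb)
          · refine Or.inl ?_
            have e : a * x' * (b * x') = a * b := by
              rw [mul_assoc, ← mul_assoc x' b x', hxc b, mul_assoc b x' x', hx2, mul_one]
            exact e ▸ A.mul_mem ha hb
        inv_mem' := fun {a} ha => by
          rcases ha with ha | ha
          · exact Or.inl (A.inv_mem ha)
          · refine Or.inr ?_
            have e : a⁻¹ * x' = (a * x')⁻¹ := by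
              rw [mul_inv_rev, inv_eq_of_mul_eq_one_right hx2, hxc]
            rw [e]; exact A.inv_mem ha }
    have hmem : ∀ b ∈ B, ∃ a ∈ A, b = a ∨ b = a * x' := by
      intro b hb
      rcases hb with hb | hb
      · exact ⟨b, hb, Or.inl rfl⟩
      · exact ⟨b * x', hb, Or.inr (by rw [mul_assoc, hx2, mul_one])⟩
    have hBel : IsElementaryAbelian 2 B := by
      refine ⟨⟨⟨fun ⟨b, hb⟩ ⟨d, hd⟩ => Subtype.ext ?_⟩⟩, fun b hb => ?_⟩
      · show b * d = d * b
        obtain ⟨a, ha, hb'⟩ := hmem b hb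
        obtain ⟨a', ha', hd'⟩ := hmem d hd
        have c1 : Commute a a' := hAc a ha a' ha'
        have c2 : ∀ y, Commute x' y := hxc
        rcases hb' with rfl | rfl <;> rcases hd' with rfl | rfl
        · exact c1
        · exact c1.mul_right (c2 _).symm
        · exact c1.mul_left (c2 _)
        · exact (c1.mul_right (c2 _).symm).mul_left ((c2 _).mul_right (c2 _))
      · obtain ⟨a, ha, rfl | rfl⟩ := hmem b hb
        · exact hA.2 _ ha
        · rw [Commute.mul_pow ((show ∀ y, Commute x' y from hxc) a).symm, hA.2 a ha, one_mul, sq, hx2]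
    have hAB : A ≤ B := fun a ha => Or.inl ha
    have hxB : x' ∈ B := Or.inr (by rw [hx2]; exact A.one_mem)
    have hBA : A = B := Subgroup.eq_of_le_of_card_ge hAB (hmax B hBel)
    exact ⟨x', le_sSup (show A ∈ maxElementaryAbelianSubgroups 2 _ from ⟨hA, hmax⟩) (hBA ▸ hxB), rfl⟩
  set N1 := Subgroup.normalizer (J : Set G) with hN1
  have hN1top : N1 ≠ ⊤ := by
    intro h
    haveI : J.Normal := Subgroup.normalizer_eq_top_iff.1 h
    exact hZne (le_bot_iff.1 (hZJ.trans ((hcore J (S.2.to_le (Subgroup.map_subtype_le _))).trans h2core.le)))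
  have hSN1 : (S : Subgroup G) ≤ N1 := fun s hs => mem_normalizer_of_conj fun a ha =>
    hJmap (MulAut.conj s) (fun y hy => mul_mem (mul_mem hs hy) (inv_mem hs)) a ha
  have hclS := T.class_two_sylow S hSσ
  set A := (Subgroup.normalClosure ((Z.subgroupOf N1 : Subgroup N1) : Set N1)).map N1.subtype with hA
  obtain ⟨hAS, hAel, hAclosed, -⟩ := Cfsg.Agent.S1997.result S W W CfsgLib.S3Free.isCharPFunctor_thompsonFun
    CfsgLib.S3Free.isCharPFunctor_thompsonFun (fun K R hR hC U => by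
      have hX3 : ¬ 3 ∣ Nat.card (↥K ⧸ R.subgroupOf K) := fun h =>
        not_three_dvd_subgroup h3 K (h.trans (Subgroup.card_quotient_dvd_card _))
      have hcl : Subgroup.lowerCentralSeries (U : Subgroup (↥K ⧸ R.subgroupOf K)) 2 = ⊥ := by
        obtain ⟨P, hP⟩ := Sylow.mapSurjective_surjective (QuotientGroup.mk'_surjective (R.subgroupOf K)) 2 U
        have hc := fun {a b c : G} (ha : a ∈ (P : Subgroup K).map K.subtype) hb hc =>
          CfsgLib.ClassTwoSylow.comm_central S hclS (P.2.map K.subtype) (a := a) (b := b) (c := c) ha hb hc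
        have hPlcs : Subgroup.lowerCentralSeries (P : Subgroup K) 2 = ⊥ := by
          rw [Subgroup.lowerCentralSeries_succ, Subgroup.lowerCentralSeries_succ,
            Subgroup.lowerCentralSeries_zero, Subgroup.commutator_eq_bot_iff_le_centralizer,
            Subgroup.commutator_le]
          intro a ha b hb
          refine Subgroup.mem_centralizer_iff.2 fun d hd => Subtype.ext ?_
          have := hc (Subgroup.mem_map_of_mem K.subtype ha) (Subgroup.mem_map_of_mem K.subtype hb)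
            (Subgroup.mem_map_of_mem K.subtype hd)
          simpa [commutatorElement_def] using this.symm
        rw [← hP, Sylow.coe_mapSurjective, Subgroup.lowerCentralSeries_succ, Subgroup.lowerCentralSeries_succ,
          Subgroup.lowerCentralSeries_zero, ← Subgroup.map_commutator, ← Subgroup.map_commutator]
        rw [Subgroup.lowerCentralSeries_succ, Subgroup.lowerCentralSeries_succ,
          Subgroup.lowerCentralSeries_zero] at hPlcs
        rw [hPlcs, Subgroup.map_bot]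
      have hXO : pPrimeCore 2 (↥K ⧸ R.subgroupOf K) = ⊥ := by
        obtain ⟨k, hk⟩ := (CfsgLib.isPGroup_pCore (G := ↥K ⧸ R.subgroupOf K) 2).exists_card_eq
        have hd := Subgroup.disjoint_of_coprime_natCard (H := pPrimeCore 2 (↥K ⧸ R.subgroupOf K))
          (K := pCore 2 (↥K ⧸ R.subgroupOf K)) (by rw [hk]; exact (card_pPrimeCore_coprime 2).pow_right k)
        refine le_bot_iff.1 fun o ho => Subgroup.disjoint_def.1 hd ho (hC ?_)
        refine Subgroup.mem_centralizer_iff.2 fun a ha => ?_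
        exact ((Subgroup.commute_of_normal_of_disjoint _ _ inferInstance inferInstance hd) o a ho ha).symm
      have hJn := CfsgLib.ClassTwoSylow.normalizer_sup_eq_top (not_involves_sym_four hX3) U hcl
        (centralizer_pCore_quotient_of_core_bot hXO hC)
      rw [hXO, sup_bot_eq] at hJn
      refine ⟨fun x => ⟨1, one_mem _, x, ?_, (one_mul x).symm⟩, fun x => ⟨1, one_mem _, x, ?_, (one_mul x).symm⟩,
        fun x => ⟨x, ?_, 1, one_mem _, (mul_one x).symm⟩⟩ <;>
      exact (hJn.symm ▸ Subgroup.mem_top x : x ∈ Subgroup.normalizer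
        (thompsonSubgroupOf 2 (U : Subgroup (↥K ⧸ R.subgroupOf K)) : Set (↥K ⧸ R.subgroupOf K))))
    (by rw [omegaOne_eq_zOmega]; exact le_inf hZJ hZJ) N1 rfl A (by rw [omegaOne_eq_zOmega])
  have hAN1 : A ≤ N1 := Subgroup.map_subtype_le _
  have hAn : ∀ m ∈ N1, ∀ b ∈ A, m * b * m⁻¹ ∈ A := by
    rintro m hm _ ⟨b, hb, rfl⟩
    exact ⟨⟨m, hm⟩ * b * ⟨m, hm⟩⁻¹, Subgroup.normalClosure_normal.conj_mem b hb _, by simp⟩
  have hZA : Z ≤ A := fun z hz => ⟨⟨z, hSN1 (hZS hz)⟩, Subgroup.subset_normalClosure hz, rfl⟩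
  have hA2 : IsPGroup 2 A := S.2.to_le hAS
  have hN1σ := inv_normalizer σ (hJmap σ hSσ)
  have hM1 := hsub N1 hN1σ (inv_normalizer τ (hJmap τ hSτ)) hN1top
  have hAZ : A ≤ Z := by
    haveI : (Z.subgroupOf N1).Normal := ⟨fun z hz g =>
      normalizes_zOmega S N1 hSN1 hN1σ hM1 hA2 hAN1 hAn hZA g.2 hz⟩
    rintro _ ⟨b, hb, rfl⟩
    exact Subgroup.normalClosure_le_normal (N := Z.subgroupOf N1) le_rfl hb
  have hAeq : A = Z := le_antisymm hAZ hZA
  set M := Subgroup.normalizer (Z : Set G) with hM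
  have hMtop : M ≠ ⊤ := by
    intro h
    haveI : Z.Normal := Subgroup.normalizer_eq_top_iff.1 h
    exact hZne (le_bot_iff.1 ((hcore Z (S.2.to_le hZS)).trans h2core.le))
  have hSM : (S : Subgroup G) ≤ M := fun s hs => mem_normalizer_of_conj fun z hz =>
    inv_zOmega (MulAut.conj s) (fun y hy => mul_mem (mul_mem hs hy) (inv_mem hs)) z hz
  have hMσ := inv_normalizer σ (inv_zOmega σ hSσ)
  have hMc := hsub M hMσ (inv_normalizer τ (inv_zOmega τ hSτ)) hMtop
  have hcomm : ∀ g ∈ M, ∀ a ∈ Z, σ (g * a * g⁻¹) = g * σ a * g⁻¹ := by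
    intro g hg a ha
    obtain ⟨s, hs, o, ho, c, hcM, hc, rfl⟩ := (split_of_concl S M hSM hMσ hMc).1 g hg
    have key : ∀ b ∈ Z, s * o * c * b * (s * o * c)⁻¹ = c * b * c⁻¹ := by
      intro b hb
      have hb' : c * b * c⁻¹ ∈ Z := (Subgroup.mem_normalizer_iff.1 hcM b).1 hb
      have h1 := commute_core (S.2.to_le hZS) (hZS.trans hSM)
        (fun m hm z hz => (Subgroup.mem_normalizer_iff.1 hm z).1 hz) ho hb'
      have h2 := hb'.2.1 s hs
      calc s * o * c * b * (s * o * c)⁻¹ = s * (o * (c * b * c⁻¹) * o⁻¹) * s⁻¹ := by group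
        _ = s * (c * b * c⁻¹) * s⁻¹ := by rw [h1, mul_inv_cancel_right]
        _ = c * b * c⁻¹ := by rw [← h2, mul_inv_cancel_right]
    rw [key a ha, key _ (inv_zOmega σ hSσ a ha), map_mul, map_mul, map_inv, hc]
  have D : Datum Z σ :=
    { comm := fun a ha b hb => ha.2.1 b (hZS hb)
      exp := fun a ha => ha.2.2
      closed := ⟨S, hZS, fun a ha g hg => hAeq ▸ hAclosed.2 a (hAeq.symm ▸ ha) g hg⟩
      mem := inv_zOmega σ hSσ
      mul := fun a _ b _ => map_mul σ a b
      cube := fun a _ => T.cube a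
      fpf := fun a ha h => T.fixed_eq_one S.2 (hZS ha) h
      equiv := hcomm }
  refine hMtop (eq_top_iff.2 fun g _ => ?_)
  obtain ⟨o, ho, hog⟩ := normalizer_cover _ G Z σ rfl h3 D g
  rw [hO, Subgroup.mem_bot] at ho
  rwa [ho, inv_one, one_mul] at hog

end CfsgLib.FpfSymThree
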