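import Cfsg.Agent.Lib.FpfSymThree.Closed
import Cfsg.Agent.S0205
import Cfsg.Agent.S0217
import Cfsg.Agent.Lib.Signalizer.Functor
import Cfsg.Agent.Lib.PSolvable

/-!
A group of order prime to three with a strongly closed elementary abelian 2-subgroup `A` carrying an operator
of order three without fixed points commuting with the induced automorphisms has `A` normal modulo its odd core.
-/

set_option autoImplicit false
set_option linter.style.haveILetI false

namespace CfsgLib.FpfSymThree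

open Cfsg
open scoped Pointwise

universe u

section

variable {X : Type u} [Group X] [Finite X]

/-- The odd core of a subgroup, in the group. -/
def cop (H : Subgroup X) : Subgroup X := (pPrimeCore 2 H).map H.subtype

theorem cop_le (H : Subgroup X) : cop H ≤ H := Subgroup.map_subtype_le _

theorem card_cop (H : Subgroup X) : (Nat.card (cop H)).Coprime 2 := by
  rw [cop, Subgroup.card_map_of_injective H.subtype_injective]
  exact card_pPrimeCore_coprime 2

theorem cop_conj (H : Subgroup X) {h x : X} (hh : h ∈ H) (hx : x ∈ cop H) : h * x * h⁻¹ ∈ cop H := by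
  obtain ⟨y, hy, rfl⟩ := hx
  exact ⟨⟨h, hh⟩ * y * ⟨h, hh⟩⁻¹, (inferInstance : (pPrimeCore 2 H).Normal).conj_mem y hy _, by simp⟩

theorem le_cop {H N : Subgroup X} (hNH : N ≤ H) (hn : ∀ h ∈ H, ∀ x ∈ N, h * x * h⁻¹ ∈ N)
    (hN : (Nat.card N).Coprime 2) : N ≤ cop H := by
  haveI : (N.subgroupOf H).Normal := ⟨fun x hx g => hn g g.2 x hx⟩
  have h := le_pPrimeCore (p := 2) (N := N.subgroupOf H)
    (by rwa [Nat.card_congr (Subgroup.subgroupOfEquivOfLe hNH).toEquiv])
  exact fun x hx => ⟨⟨x, hNH hx⟩, h hx, rfl⟩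

theorem map_conj_cop {H : Subgroup X} {g : X} (hg : ∀ x ∈ H, g * x * g⁻¹ ∈ H) {x : X} (hx : x ∈ cop H) :
    g * x * g⁻¹ ∈ cop H := by
  have hgN : g ∈ Subgroup.normalizer (H : Set X) := mem_normalizer_of_conj hg
  refine le_cop (H := H) (N := (cop H).map (MulAut.conj g).toMonoidHom) ?_ ?_ ?_ ⟨x, hx, by simp⟩
  · rintro _ ⟨y, hy, rfl⟩
    simpa using hg y (cop_le H hy)
  · rintro h hh _ ⟨y, hy, rfl⟩
    have h' : g⁻¹ * h * g ∈ H := by
      simpa using (Subgroup.mem_normalizer_iff.1 (inv_mem hgN) h).1 hh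
    exact ⟨g⁻¹ * h * g * y * (g⁻¹ * h * g)⁻¹, cop_conj H h' hy, by simp; group⟩
  · rw [Subgroup.card_map_of_injective (MulAut.conj g).injective]
    exact card_cop H

/-- An element of order dividing two and of odd order is trivial. -/
theorem eq_one_of_two_odd {x : X} {N : Subgroup X} (hN : (Nat.card N).Coprime 2) (h2 : x * x = 1) (hx : x ∈ N) :
    x = 1 :=
  orderOf_eq_one_iff.1 (Nat.eq_one_of_dvd_coprimes hN.symm (orderOf_dvd_of_pow_eq_one (by rw [sq, h2]))
    (Subgroup.orderOf_dvd_natCard N hx))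

variable {A : Subgroup X} {f : X → X}

/-- Either a pair of non-conjugate involutions commute with a third one lying in a conjugate of `A`, or they do
not exist. -/
theorem exists_third (D : Datum A f) {u b g₀ a : X} (hu : u ∈ A) (hu1 : u ≠ 1) (ha : a ∈ A)
    (hb : b = g₀ * a * g₀⁻¹) (hne : ∀ g, g * u * g⁻¹ ≠ b) :
    ∃ i g, i ≠ 1 ∧ g⁻¹ * i * g ∈ A ∧ i * u = u * i ∧ i * b = b * i := by
  classical
  haveI : Fact (Nat.Prime 2) := ⟨Nat.prime_two⟩
  have hu2 := D.exp u hu
  have hb2 : b * b = 1 := by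
    rw [hb]
    calc g₀ * a * g₀⁻¹ * (g₀ * a * g₀⁻¹) = g₀ * (a * a) * g₀⁻¹ := by group
      _ = 1 := by rw [D.exp a ha]; group
  set r := u * b with hr
  have hinv : ∀ j : ℤ, u * r ^ j * u = r ^ (-j) := by
    intro j
    have h1 : u * r * u⁻¹ = r⁻¹ := by
      rw [hr, mul_inv_rev, D.inv_eq hu, inv_eq_of_mul_eq_one_right hb2, ← mul_assoc u u b, hu2, one_mul]
    have h2 := (map_zpow (MulAut.conj u) r j)
    simp only [MulAut.conj_apply] at h2
    rw [h1, inv_zpow', D.inv_eq hu] at h2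
    exact h2
  obtain ⟨k, m, hm, hkm⟩ := Nat.exists_eq_pow_mul_and_not_dvd (orderOf_pos r).ne' 2 (by norm_num)
  set s := r ^ m with hs
  have hs2 : s ^ 2 ^ k = 1 := by rw [hs, ← pow_mul, mul_comm, ← hkm, pow_orderOf_eq_one]
  have hsu : ∀ j : ℤ, u * s ^ j = s ^ (-j) * u := fun j => by
    have h := hinv (m * j)
    rw [zpow_mul, zpow_natCast, ← hs, ← mul_neg, zpow_mul, zpow_natCast, ← hs] at h
    calc u * s ^ j = u * s ^ j * (u * u) := by rw [hu2, mul_one]
      _ = (u * s ^ j * u) * u := by simp only [mul_assoc]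
      _ = _ := by rw [h]
  let T : Subgroup X :=
    { carrier := {x | ∃ j : ℤ, x = s ^ j ∨ x = u * s ^ j}
      one_mem' := ⟨0, Or.inl (zpow_zero s).symm⟩
      mul_mem' := by
        rintro x y ⟨i, rfl | rfl⟩ ⟨j, rfl | rfl⟩
        · exact ⟨i + j, Or.inl (zpow_add s i j).symm⟩
        · refine ⟨-i + j, Or.inr ?_⟩
          rw [← mul_assoc, show s ^ i * u = u * s ^ (-i) by rw [hsu, neg_neg], mul_assoc, ← zpow_add]
        · exact ⟨i + j, Or.inr (by rw [mul_assoc, ← zpow_add])⟩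
        · refine ⟨-i + j, Or.inl ?_⟩
          rw [mul_assoc, ← mul_assoc (s ^ i), show s ^ i * u = u * s ^ (-i) by rw [hsu, neg_neg],
            mul_assoc, ← mul_assoc u, hu2, one_mul, ← zpow_add]
      inv_mem' := by
        rintro x ⟨i, rfl | rfl⟩
        · exact ⟨-i, Or.inl (zpow_neg s i).symm⟩
        · refine ⟨i, Or.inr ?_⟩
          rw [mul_inv_rev, D.inv_eq hu, ← zpow_neg, hsu] }
  have hT : IsPGroup 2 T := by
    rintro ⟨x, i, rfl | rfl⟩
    · refine ⟨k, Subtype.ext ?_⟩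
      show (s ^ i) ^ (2 ^ k) = 1
      rw [← zpow_natCast, ← zpow_mul, mul_comm, zpow_mul, zpow_natCast, hs2, one_zpow]
    · refine ⟨1, Subtype.ext ?_⟩
      show (u * s ^ i) ^ (2 ^ 1) = 1
      rw [pow_one, sq, mul_assoc, ← mul_assoc (s ^ i), show s ^ i * u = u * s ^ (-i) by rw [hsu, neg_neg],
        mul_assoc, ← mul_assoc u, hu2, one_mul, ← zpow_add, neg_add_cancel, zpow_zero]
  obtain ⟨S, hAS, hS⟩ := D.closed
  obtain ⟨P, hP⟩ := hT.exists_le_sylow
  obtain ⟨g, hg⟩ := MulAction.exists_smul_eq X S P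
  have hback : ∀ t ∈ T, g⁻¹ * t * g ∈ (S : Subgroup X) := fun t ht => by
    have := hP ht
    rw [← hg, Sylow.coe_subgroup_smul, Subgroup.mem_pointwise_smul_iff_inv_smul_mem] at this
    simpa [MulAut.smul_def] using this
  obtain ⟨l, hl⟩ : ∃ l, m = 2 * l + 1 := ⟨m / 2, by omega⟩
  have hb' : u * s = (r ^ l)⁻¹ * b * r ^ l := by
    have h1 : u * r = b := by rw [hr, ← mul_assoc, hu2, one_mul]
    have h2 : u * r ^ l = (r ^ l)⁻¹ * u := by
      have h := hinv l
      rw [zpow_natCast, zpow_neg, zpow_natCast] at h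
      calc u * r ^ l = u * r ^ l * (u * u) := by rw [hu2, mul_one]
        _ = (r ^ l)⁻¹ * u := by rw [← mul_assoc, h]
    rw [hs, hl, show 2 * l + 1 = l + (1 + l) by ring, pow_add, pow_add, pow_one, ← mul_assoc, h2]
    simp only [mul_assoc]
    rw [← mul_assoc u r, h1]
  have hu' : g⁻¹ * u * g ∈ A := by
    simpa using hS u hu g⁻¹ (by simpa using hback u ⟨0, Or.inr (by rw [zpow_zero, mul_one])⟩)
  have hus : g⁻¹ * (u * s) * g ∈ A := by
    have h := hback (u * s) ⟨1, Or.inr (by rw [zpow_one])⟩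
    have e : g⁻¹ * (u * s) * g = (g⁻¹ * (r ^ l)⁻¹ * g₀) * a * (g⁻¹ * (r ^ l)⁻¹ * g₀)⁻¹ := by
      rw [hb', hb]; group
    rw [e] at h ⊢
    exact hS a ha _ h
  have hcomm : u * (u * s) = (u * s) * u := by
    have h := D.comm _ hu' _ hus
    calc u * (u * s) = g * ((g⁻¹ * u * g) * (g⁻¹ * (u * s) * g)) * g⁻¹ := by group
      _ = g * ((g⁻¹ * (u * s) * g) * (g⁻¹ * u * g)) * g⁻¹ := by rw [h]
      _ = _ := by group
  rw [← mul_assoc, hu2, one_mul] at hcomm
  refine ⟨s, g, fun h1 => ?_, ?_, ?_, ?_⟩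
  · refine hne (r ^ l) ?_
    rw [h1, mul_one] at hb'
    calc r ^ l * u * (r ^ l)⁻¹ = r ^ l * ((r ^ l)⁻¹ * b * r ^ l) * (r ^ l)⁻¹ := by rw [← hb']
      _ = b := by group
  · have h := mul_mem hu' hus
    convert h using 1
    calc g⁻¹ * s * g = g⁻¹ * ((u * u) * s) * g := by rw [hu2, one_mul]
      _ = _ := by group
  · have h2 : s * u = u * s := by
      calc s * u = u * s * u * u := by rw [← hcomm]
        _ = u * s := by rw [mul_assoc _ u u, hu2, mul_one]
    exact h2
  · have h2 : s * u = u * s := by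
      calc s * u = u * s * u * u := by rw [← hcomm]
        _ = u * s := by rw [mul_assoc _ u u, hu2, mul_one]
    have hbr : b = u * r := by rw [hr, ← mul_assoc, hu2, one_mul]
    rw [hbr, ← mul_assoc, h2, mul_assoc, mul_assoc, show s * r = r * s by
      rw [hs, ← pow_succ, ← pow_succ']]

/-- The conclusion from subgroups containing the centralizers. -/
theorem finish (D : Datum A f) (h3 : ¬ 3 ∣ Nat.card X) (hO : pPrimeCore 2 X = ⊥) (M : Subgroup X) (hAM : A ≤ M)
    (hcent : ∀ a ∈ A, a ≠ 1 → Subgroup.centralizer ({a} : Set X) ≤ M)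
    (hM : ∀ g ∈ M, ∃ o ∈ cop M, o⁻¹ * g ∈ Subgroup.normalizer (A : Set X)) :
    ∀ g, g ∈ Subgroup.normalizer (A : Set X) := by
  classical
  haveI : Fact (Nat.Prime 2) := ⟨Nat.prime_two⟩
  -- conjugates lying in `M`
  have hinto : ∀ i g : X, g⁻¹ * i * g ∈ A → i ∈ M → ∃ y ∈ M, y * i * y⁻¹ ∈ A := by
    intro i g hi hiM
    obtain ⟨P, hP⟩ := (D.isPGroup.of_equiv (Subgroup.subgroupOfEquivOfLe hAM).symm).exists_le_sylow
    have hi2 : i * i = 1 := by
      calc i * i = g * ((g⁻¹ * i * g) * (g⁻¹ * i * g)) * g⁻¹ := by group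
        _ = 1 := by rw [D.exp _ hi]; group
    have hz : IsPGroup 2 (Subgroup.zpowers (⟨i, hiM⟩ : M)) := by
      by_cases h1 : (⟨i, hiM⟩ : M) = 1
      · rw [h1, Subgroup.zpowers_one_eq_bot]; exact IsPGroup.of_bot
      · exact IsPGroup.of_card (n := 1) (by
          rw [Nat.card_zpowers, pow_one]
          exact orderOf_eq_prime (by rw [sq]; exact Subtype.ext hi2) h1)
    obtain ⟨Q, hQ⟩ := hz.exists_le_sylow
    obtain ⟨y, hy⟩ := MulAction.exists_smul_eq M Q P
    refine ⟨y, y.2, ?_⟩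
    have e : (y : X) * i * (y : X)⁻¹ = ((y : X) * g) * (g⁻¹ * i * g) * ((y : X) * g)⁻¹ := by group
    rw [e]
    refine D.closed_two (P.2.map M.subtype) (fun x hx => ⟨⟨x, hAM hx⟩, hP hx, rfl⟩) hi ?_
    rw [← e]
    refine ⟨y * ⟨i, hiM⟩ * y⁻¹, ?_, rfl⟩
    rw [SetLike.mem_coe, ← hy, Sylow.coe_subgroup_smul, Subgroup.mem_pointwise_smul_iff_inv_smul_mem]
    have e2 : (MulAut.conj y)⁻¹ • (y * ⟨i, hiM⟩ * y⁻¹) = (⟨i, hiM⟩ : M) := by
      simp only [MulAut.smul_def, MulAut.conj_inv_apply]; group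
    rw [e2]
    exact hQ (Subgroup.mem_zpowers _)
  -- the conjugates of `A` lie in `M`
  have hconj : ∀ a ∈ A, ∀ g : X, g * a * g⁻¹ ∈ A ⊔ cop M := by
    intro a ha g
    by_cases ha1 : a = 1
    · rw [ha1]; simp
    set b := g * a * g⁻¹ with hb
    have hfa1 : f a ≠ 1 := fun h => ha1 (by
      have := D.cube a ha
      rw [h, D.f_one, D.f_one] at this
      exact this.symm)
    have hne : ∀ g', g' * f a * g'⁻¹ ≠ b := fun g' h => D.not_conj h3 ha ha1 (g'⁻¹ * g) (by
      calc g'⁻¹ * g * a * (g'⁻¹ * g)⁻¹ = g'⁻¹ * b * g' := by rw [hb]; group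
        _ = g'⁻¹ * (g' * f a * g'⁻¹) * g' := by rw [h]
        _ = f a := by group)
    obtain ⟨i, x, hi1, hiA, hiu, hib⟩ := exists_third D (D.mem a ha) hfa1 ha hb hne
    have hiM : i ∈ M := hcent _ (D.mem a ha) hfa1 (Subgroup.mem_centralizer_singleton_iff.2 hiu)
    obtain ⟨y, hy, hyA⟩ := hinto i x hiA hiM
    have hy1 : y * i * y⁻¹ ≠ 1 := fun h => hi1 (conj_eq_one_iff.1 h)
    have hbM : b ∈ M := by
      have h1 : y * b * y⁻¹ ∈ M := hcent _ hyA hy1 (Subgroup.mem_centralizer_singleton_iff.2 (by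
        calc y * b * y⁻¹ * (y * i * y⁻¹) = y * (b * i) * y⁻¹ := by group
          _ = y * (i * b) * y⁻¹ := by rw [hib]
          _ = y * i * y⁻¹ * (y * b * y⁻¹) := by group))
      simpa [mul_assoc] using mul_mem (mul_mem (inv_mem hy) h1) hy
    obtain ⟨z, hz, hzA⟩ := hinto b g (by rw [hb]; group; simpa using ha) hbM
    obtain ⟨o, ho, hn⟩ := hM z⁻¹ (inv_mem hz)
    have e : b = o * ((o⁻¹ * z⁻¹) * (z * b * z⁻¹) * (o⁻¹ * z⁻¹)⁻¹) * o⁻¹ := by group
    rw [e]
    exact mul_mem (mul_mem (Subgroup.mem_sup_right ho)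
      (Subgroup.mem_sup_left ((Subgroup.mem_normalizer_iff.1 hn _).1 hzA))) (Subgroup.mem_sup_right (inv_mem ho))
  set N := Subgroup.normalClosure (A : Set X) with hN
  have hNle : N ≤ A ⊔ cop M := (Subgroup.closure_le _).2 fun x hx => by
    obtain ⟨a, ha, hc⟩ := Group.mem_conjugatesOfSet_iff.1 hx
    obtain ⟨g, rfl⟩ := isConj_iff.1 hc
    exact hconj a ha g
  have hNM : N ≤ M := hNle.trans (sup_le hAM (cop_le M))
  have hbot : N ⊓ cop M = ⊥ := by
    haveI : ((N ⊓ cop M).subgroupOf N).Normal := ⟨fun x hx n => by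
      rw [Subgroup.mem_subgroupOf] at hx ⊢
      exact ⟨(inferInstance : N.Normal).conj_mem _ hx.1 _, cop_conj M (hNM n.2) hx.2⟩⟩
    have h := le_pPrimeCore (p := 2) (N := (N ⊓ cop M).subgroupOf N) (by
      rw [Nat.card_congr (Subgroup.subgroupOfEquivOfLe inf_le_left).toEquiv]
      exact (card_cop M).coprime_dvd_left (Subgroup.card_dvd_of_le inf_le_right))
    have hN0 : pPrimeCore 2 N = ⊥ := (Subgroup.map_eq_bot_iff_of_injective _ N.subtype_injective).1
      (le_bot_iff.1 (hO ▸ map_pPrimeCore_le 2 N))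
    rw [hN0] at h
    rw [le_bot_iff, Subgroup.subgroupOf_eq_bot, disjoint_iff, inf_assoc, inf_comm (cop M), ← inf_assoc, inf_idem] at h
    exact h
  have hAN : A ≤ N := Subgroup.subset_normalClosure
  intro g
  refine mem_normalizer_of_conj fun a ha => ?_
  have hgN : g * a * g⁻¹ ∈ N := (inferInstance : N.Normal).conj_mem a (hAN ha) g
  have hn : A ≤ Subgroup.normalizer (cop M : Set X) := fun x hx =>
    mem_normalizer_of_conj fun y hy => cop_conj M (hAM hx) hy
  have hmem := hNle hgN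
  rw [← SetLike.mem_coe, Subgroup.coe_mul_of_left_le_normalizer_right A (cop M) hn] at hmem
  obtain ⟨x, hx, y, hy, hxy⟩ := hmem
  simp only at hxy
  have hy1 : y ∈ N ⊓ cop M := ⟨by
    have := mul_mem (inv_mem (hAN hx)) hgN
    rwa [← hxy, inv_mul_cancel_left] at this, hy⟩
  rw [hbot, Subgroup.mem_bot] at hy1
  rw [← hxy, hy1, mul_one]
  exact hx

end

/-- The theorem. -/
theorem normalizer_cover : ∀ (n : ℕ) (X : Type u) [Group X] [Finite X] (A : Subgroup X) (f : X → X),
    Nat.card X = n → ¬ 3 ∣ Nat.card X → Datum A f →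
      ∀ g, ∃ o ∈ pPrimeCore 2 X, o⁻¹ * g ∈ Subgroup.normalizer (A : Set X) := by
  intro n
  induction n using Nat.strong_induction_on with
  | _ n ih =>
  intro X _ _ A f hn h3 D
  classical
  haveI : Fact (Nat.Prime 2) := ⟨Nat.prime_two⟩
  haveI : Fact (Nat.Prime 3) := ⟨Nat.prime_three⟩
  have hlt : ∀ K : Subgroup X, K.Normal → K ≠ ⊥ → Nat.card (X ⧸ K) < n := fun K _ hK => by
    rw [← hn, Subgroup.card_eq_card_quotient_mul_card_subgroup K]
    exact Nat.lt_mul_iff_one_lt_right Nat.card_pos |>.2 ((Subgroup.one_lt_card_iff_ne_bot K).2 hK)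
  have hq3 : ∀ K : Subgroup X, K.Normal → ¬ 3 ∣ Nat.card (X ⧸ K) := fun K _ h =>
    h3 (h.trans (Subgroup.card_quotient_dvd_card K))
  by_cases hO : pPrimeCore 2 X = ⊥
  swap
  · set O := pPrimeCore 2 X with hOdef
    set π := QuotientGroup.mk' O with hπ
    have hker : ∀ a ∈ A, π a = 1 → a = 1 := fun a ha h =>
      eq_one_of_two_odd (card_pPrimeCore_coprime 2) (D.exp a ha) ((QuotientGroup.eq_one_iff a).1 h)
    have hFr : ∀ g, π g ∈ Subgroup.normalizer (A.map π : Set (X ⧸ O)) →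
        ∃ o ∈ O, o * g ∈ Subgroup.normalizer (A : Set X) := by
      intro g hg
      have hle : A.map (MulAut.conj g).toMonoidHom ≤ A ⊔ O := by
        rintro _ ⟨a, ha, rfl⟩
        have : π (g * a * g⁻¹) ∈ A.map π := by
          rw [map_mul, map_mul, map_inv]
          exact (Subgroup.mem_normalizer_iff.1 hg _).1 ⟨a, ha, rfl⟩
        rw [← Subgroup.mem_comap, Subgroup.comap_map_eq, hπ, QuotientGroup.ker_mk'] at this
        simpa using this
      obtain ⟨o, ho, hoA⟩ := conj_into_of_sup (card_pPrimeCore_coprime 2) D.isPGroup (D.isPGroup.map _) hle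
      refine ⟨o, ho, mem_normalizer_of_conj fun a ha => ?_⟩
      have h := hoA _ ⟨a, ha, rfl⟩
      simp only [MulEquiv.coe_toMonoidHom, MulAut.conj_apply] at h
      convert h using 1
      group
    obtain ⟨f', D'⟩ := D.map π (QuotientGroup.mk'_surjective O)
      (fun a ha h => by rw [hker a ha h, D.f_one, map_one])
      (fun g hg => by
        obtain ⟨o, ho, hog⟩ := hFr g hg
        exact ⟨o * g, hog, by rw [map_mul, show π o = 1 from (QuotientGroup.eq_one_iff o).2 ho, one_mul]⟩)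
      (fun S hAS hS a ha g hg => by
        rw [← Subgroup.mem_comap, Subgroup.comap_map_eq, hπ, QuotientGroup.ker_mk'] at hg
        have h2 : IsPGroup 2 (Subgroup.zpowers (g * a * g⁻¹)) := by
          have h : (g * a * g⁻¹) ^ 2 = 1 := by
            rw [conj_pow, sq, D.exp a ha, mul_one, mul_inv_cancel]
          rintro ⟨x, hx⟩
          obtain ⟨z, rfl⟩ := Subgroup.mem_zpowers_iff.1 hx
          refine ⟨1, Subtype.ext ?_⟩
          show ((g * a * g⁻¹) ^ z) ^ (2 ^ 1) = 1
          rw [pow_one, ← zpow_natCast, ← zpow_mul, mul_comm, zpow_mul, zpow_natCast, h, one_zpow]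
        obtain ⟨o, ho, hoS⟩ := conj_into_of_sup (card_pPrimeCore_coprime 2) S.2 h2
          (Subgroup.zpowers_le.2 hg)
        have hoS' := hoS _ (Subgroup.mem_zpowers _)
        have e : o * (g * a * g⁻¹) * o⁻¹ = (o * g) * a * (o * g)⁻¹ := by group
        refine ⟨(o * g) * a * (o * g)⁻¹, hS a ha _ (e ▸ hoS'), ?_⟩
        have ho1 : π o = 1 := (QuotientGroup.eq_one_iff o).2 ho
        simp [map_mul, ho1])
      (fun a ha h => by
        have h1 : π (a⁻¹ * f a) = 1 := by rw [map_mul, map_inv, h, inv_mul_cancel]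
        have h2 := hker _ (mul_mem (inv_mem ha) (D.mem a ha)) h1
        rw [D.fpf a ha (inv_mul_eq_one.1 h2).symm, map_one])
    intro g
    obtain ⟨ō, hō, hn'⟩ := ih _ (hlt O inferInstance hO) (X ⧸ O) (A.map π) f' rfl
      (hq3 O inferInstance) D' (π g)
    rw [CfsgLib.pPrimeCore_quotient_eq_bot 2, Subgroup.mem_bot] at hō
    rw [hō, inv_one, one_mul] at hn'
    obtain ⟨o, ho, hog⟩ := hFr g hn'
    exact ⟨o⁻¹, inv_mem ho, by rwa [inv_inv]⟩
  suffices hgoal : ∀ g, g ∈ Subgroup.normalizer (A : Set X) by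
    exact fun g => ⟨1, one_mem _, by simpa using hgoal g⟩
  set F := A ⊓ Subgroup.center X with hFdef
  have hFf : ∀ x ∈ F, f x ∈ F := fun x hx => by
    refine ⟨D.mem x hx.1, D.mem_center_of_fixed hO (D.mem x hx.1) fun m hm => ?_⟩
    rw [← D.equiv m hm x hx.1, Subgroup.mem_center_iff.1 hx.2 m, mul_inv_cancel_right]
  by_cases hF : F = ⊥
  swap
  · haveI : F.Normal := ⟨fun x hx g => by
      rw [Subgroup.mem_center_iff.1 hx.2 g, mul_inv_cancel_right]; exact hx⟩
    set π := QuotientGroup.mk' F with hπ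
    have hnorm : ∀ g, π g ∈ Subgroup.normalizer (A.map π : Set (X ⧸ F)) →
        g ∈ Subgroup.normalizer (A : Set X) := fun g hg => mem_normalizer_of_conj fun a ha => by
      have : π (g * a * g⁻¹) ∈ A.map π := by
        rw [map_mul, map_mul, map_inv]
        exact (Subgroup.mem_normalizer_iff.1 hg _).1 ⟨a, ha, rfl⟩
      rwa [← Subgroup.mem_comap, Subgroup.comap_map_eq, hπ, QuotientGroup.ker_mk',
        sup_eq_left.2 inf_le_left] at this
    obtain ⟨f', D'⟩ := D.map π (QuotientGroup.mk'_surjective F)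
      (fun a _ h => (QuotientGroup.eq_one_iff (f a)).2 (hFf a ((QuotientGroup.eq_one_iff a).1 h)))
      (fun g hg => ⟨g, hnorm g hg, rfl⟩)
      (fun S hAS hS a ha g hg => by
        rw [← Subgroup.mem_comap, Subgroup.comap_map_eq, hπ, QuotientGroup.ker_mk',
          sup_eq_left.2 (inf_le_left.trans hAS)] at hg
        exact ⟨_, hS a ha g hg, rfl⟩)
      (fun a ha h => by
        have he : a⁻¹ * f a ∈ F := QuotientGroup.eq.1 h.symm
        obtain ⟨⟨x, hx⟩, hxe⟩ := Finite.surjective_of_injective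
          (f := fun x : F => (⟨(x : X)⁻¹ * f x, mul_mem (inv_mem x.2) (hFf x x.2)⟩ : F))
          (fun x y hxy => by
            have h := congrArg Subtype.val hxy
            simp only [D.inv_eq x.2.1, D.inv_eq y.2.1] at h
            refine Subtype.ext (mul_inv_eq_one.1 ?_)
            rw [D.inv_eq y.2.1]
            refine D.fpf _ (mul_mem x.2.1 y.2.1) ?_
            rw [D.mul _ x.2.1 _ y.2.1]
            calc f x * f y = (x : X) * ((x : X) * f x) * f y := by
                  rw [← mul_assoc, D.exp _ x.2.1, one_mul]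
              _ = (x : X) * ((y : X) * f y) * f y := by rw [h]
              _ = (x : X) * y * (f y * f y) := by simp only [mul_assoc]
              _ = (x : X) * y := by rw [D.exp _ (D.mem _ y.2.1), mul_one]) ⟨_, he⟩
        have hxe' := congrArg Subtype.val hxe
        simp only [D.inv_eq hx.1, D.inv_eq ha] at hxe'
        have hfix : f (a * x) = a * x := by
          rw [D.mul a ha x hx.1]
          calc f a * f x = a * (a * f a) * f x := by rw [← mul_assoc, D.exp a ha, one_mul]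
            _ = a * (x * f x) * f x := by rw [hxe']
            _ = a * x * (f x * f x) := by simp only [mul_assoc]
            _ = a * x := by rw [D.exp _ (D.mem x hx.1), mul_one]
        have hax : a = x := by
          have := D.fpf _ (mul_mem ha hx.1) hfix
          rw [← inv_eq_of_mul_eq_one_right this, D.inv_eq ha]
        exact (QuotientGroup.eq_one_iff a).2 (hax ▸ hx))
    intro g
    refine hnorm g ?_
    obtain ⟨ō, hō, hn'⟩ := ih _ (hlt F inferInstance hF) (X ⧸ F) (A.map π) f' rfl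
      (hq3 F inferInstance) D' (π g)
    have hK : (pPrimeCore 2 (X ⧸ F)).comap π ≤ F := by
      refine le_of_central_two hO (fun x hx => ?_) (D.isPGroup.to_le inf_le_left)
        (fun k _ x hx => Subgroup.mem_center_iff.1 hx.2 k) ?_
      · rw [Subgroup.mem_comap, show π x = 1 from (QuotientGroup.eq_one_iff x).2 hx]
        exact one_mem _
      · have : F.relIndex ((pPrimeCore 2 (X ⧸ F)).comap π) = Nat.card (pPrimeCore 2 (X ⧸ F)) := by
          rw [Subgroup.relIndex, show F.subgroupOf ((pPrimeCore 2 (X ⧸ F)).comap π) =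
            (π.comp ((pPrimeCore 2 (X ⧸ F)).comap π).subtype).ker by
              rw [← MonoidHom.comap_ker, hπ, QuotientGroup.ker_mk']; rfl,
            Subgroup.index_ker, MonoidHom.range_comp, Subgroup.range_subtype,
            Subgroup.map_comap_eq_self_of_surjective (QuotientGroup.mk'_surjective F)]
        rw [this]
        exact not_dvd_card_pPrimeCore Nat.prime_two
    obtain ⟨o, ho⟩ := QuotientGroup.mk'_surjective F ō
    have hō1 : ō = 1 := by
      rw [← ho]
      exact (QuotientGroup.eq_one_iff o).2 (hK (show π o ∈ pPrimeCore 2 (X ⧸ F) by rwa [hπ, ho]))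
    rwa [hō1, inv_one, one_mul] at hn'
  by_cases hA0 : A = ⊥
  · exact fun g => mem_normalizer_of_conj fun a ha => by
      rw [hA0, Subgroup.mem_bot] at ha ⊢; rw [ha]; group
  have hnc : ∀ a ∈ A, a ≠ 1 → a ∉ Subgroup.center X := fun a ha ha1 hc => ha1 (by
    have : a ∈ F := ⟨ha, hc⟩
    rwa [hF, Subgroup.mem_bot] at this)
  -- the rank is at least three
  obtain ⟨k, hk⟩ := IsPGroup.exists_card_eq D.isPGroup
  haveI : Fintype A := Fintype.ofFinite A
  let σ : Function.End A := fun a => ⟨f a, D.mem a a.2⟩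
  have hσ : σ ^ 3 ^ 1 = 1 := funext fun a => Subtype.ext (D.cube a a.2)
  have hmod : 2 ^ k % 3 = 1 := by
    have h := Equiv.Perm.card_fixedPoints_modEq (p := 3) (n := 1) hσ
    have h1 : Fintype.card (Function.fixedPoints σ) = 1 := by
      rw [Fintype.card_eq_one_iff]
      exact ⟨⟨1, Subtype.ext D.f_one⟩, fun a =>
        Subtype.ext (Subtype.ext (D.fpf _ a.1.2 (congrArg Subtype.val (a.2 : σ a.1 = a.1))))⟩
    rw [h1, ← Nat.card_eq_fintype_card, hk] at h
    exact h
  have hk0 : k ≠ 0 := fun h => hA0 (Subgroup.eq_bot_of_card_eq _ (by rw [hk, h, pow_zero]))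
  have hk1 : k ≠ 1 := fun h => by rw [h] at hmod; norm_num at hmod
  have hk2 : k ≠ 2 := by
    intro h
    obtain ⟨a, ha, ha1⟩ := (Subgroup.ne_bot_iff_exists_ne_one.1 hA0 |> fun ⟨x, hx⟩ =>
      (⟨x.1, x.2, fun e => hx (Subtype.ext e)⟩ : ∃ a, a ∈ A ∧ a ≠ 1))
    have hb := D.mem a ha
    have hc := D.mem _ hb
    have d1 : f a ≠ a := fun e => ha1 (D.fpf a ha e)
    have d2 : f (f a) ≠ f a := fun e => d1 (by
      have := congrArg f e
      rw [D.cube a ha] at this
      exact (e ▸ this).symm)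
    have d3 : f (f a) ≠ a := fun e => d1 (by
      have := congrArg f e
      rw [D.cube a ha] at this
      exact this.symm)
    have hne : ∀ x ∈ A, x ≠ 1 → f x ≠ 1 := fun x hx hx1 e => hx1 (by
      have := D.cube x hx
      rw [e, D.f_one, D.f_one] at this
      exact this.symm)
    have hall : ∀ x ∈ A, x = 1 ∨ x = a ∨ x = f a ∨ x = f (f a) := by
      intro x hx
      by_contra hcon
      push Not at hcon
      have h5 : ({⟨x, hx⟩, 1, ⟨a, ha⟩, ⟨f a, hb⟩, ⟨f (f a), hc⟩} : Finset A).card = 5 := by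
        rw [Finset.card_insert_of_notMem, Finset.card_insert_of_notMem, Finset.card_insert_of_notMem,
          Finset.card_pair]
        · exact fun e => d2 (congrArg Subtype.val e).symm
        · simp [Ne.symm d1, Ne.symm d3]
        · simp [Subtype.ext_iff, Ne.symm ha1, Ne.symm (hne a ha ha1), Ne.symm (hne _ hb (hne a ha ha1))]
        · simp [Subtype.ext_iff, hcon.1, hcon.2.1, hcon.2.2.1, hcon.2.2.2]
      have := Finset.card_le_univ ({⟨x, hx⟩, 1, ⟨a, ha⟩, ⟨f a, hb⟩, ⟨f (f a), hc⟩} : Finset A)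
      rw [h5, ← Nat.card_eq_fintype_card, hk, h] at this
      norm_num at this
    refine hnc a ha ha1 (D.mem_center_of_fixed hO ha fun m hm => ?_)
    rcases hall _ ((Subgroup.mem_normalizer_iff.1 hm a).1 ha) with e | e | e | e
    · exact absurd (conj_eq_one_iff.1 e) ha1
    · exact e
    · exact absurd e (D.not_conj h3 ha ha1 m)
    · refine absurd ?_ (D.not_conj h3 hc (hne _ hb (hne a ha ha1)) m⁻¹)
      rw [D.cube a ha, inv_inv, ← e]
      group
  have hrank : 2 ^ 3 ≤ Nat.card A := hk ▸ Nat.pow_le_pow_right (by norm_num) (by omega)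
  -- centralizers
  have hAC : ∀ a ∈ A, A ≤ Subgroup.centralizer ({a} : Set X) := fun a ha b hb =>
    Subgroup.mem_centralizer_singleton_iff.2 (D.comm b hb a ha)
  have hind : ∀ H : Subgroup X, A ≤ H → H ≠ ⊤ →
      ∀ g ∈ H, ∃ o ∈ cop H, o⁻¹ * g ∈ Subgroup.normalizer (A : Set X) := by
    intro H hAH hH g hg
    obtain ⟨f', D'⟩ := D.restrict hAH
    have hcard : Nat.card H < n := by
      rw [← hn]
      exact lt_of_le_of_ne (Subgroup.card_le_card_group H) fun e => hH (Subgroup.eq_top_of_card_eq H e)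
    obtain ⟨o, ho, hon⟩ := ih _ hcard H (A.subgroupOf H) f' rfl (not_three_dvd_subgroup h3 H) D' ⟨g, hg⟩
    refine ⟨o, ⟨o, ho, rfl⟩, mem_normalizer_of_conj fun a ha => ?_⟩
    exact (Subgroup.mem_normalizer_iff.1 hon ⟨a, hAH ha⟩).1 ha
  have hCne : ∀ a ∈ A, a ≠ 1 → Subgroup.centralizer ({a} : Set X) ≠ ⊤ := fun a ha ha1 h =>
    hnc a ha ha1 (Subgroup.mem_center_iff.2 fun g =>
      Subgroup.mem_centralizer_singleton_iff.1 (h ▸ Subgroup.mem_top g))
  set θ : X → Subgroup X := fun a => cop (Subgroup.centralizer ({a} : Set X)) with hθ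
  set OA := cop (Subgroup.centralizer (A : Set X)) with hOA
  have hCA : ∀ a ∈ A, Subgroup.centralizer (A : Set X) ≤ Subgroup.centralizer ({a} : Set X) := fun a ha =>
    Subgroup.centralizer_le (Set.singleton_subset_iff.2 ha)
  have hdown : ∀ a ∈ A, θ a ⊓ Subgroup.centralizer (A : Set X) ≤ OA := fun a ha =>
    le_cop inf_le_right (fun h hh x hx =>
      Subgroup.mem_inf.2 ⟨cop_conj _ (hCA a ha hh) hx.1, Subgroup.mul_mem _ (Subgroup.mul_mem _ hh hx.2) (Subgroup.inv_mem _ hh)⟩)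
      ((card_cop _).coprime_dvd_left (Subgroup.card_dvd_of_le inf_le_left))
  have hup : ∀ a ∈ A, a ≠ 1 → OA ≤ θ a := by
    intro a ha ha1
    have hOAC : OA ≤ Subgroup.centralizer ({a} : Set X) := (cop_le _).trans (hCA a ha)
    have hnθ : OA ≤ Subgroup.normalizer (θ a : Set X) := fun x hx =>
      mem_normalizer_of_conj fun y hy => cop_conj _ (hOAC hx) hy
    have hsup : (Nat.card (OA ⊔ θ a : Subgroup X)).Coprime 2 :=
      ((card_cop _).mul_left (card_cop _)).coprime_dvd_left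
        (by rw [sup_comm]; exact CfsgLib.Signalizer.card_sup_dvd hnθ)
    refine le_sup_left.trans (le_cop (sup_le hOAC (cop_le _)) (fun h hh x hx => ?_) hsup)
    obtain ⟨o, ho, hon⟩ := hind _ (hAC a ha) (hCne a ha ha1) h hh
    have hCAn : ∀ y ∈ Subgroup.centralizer (A : Set X),
        (o⁻¹ * h) * y * (o⁻¹ * h)⁻¹ ∈ Subgroup.centralizer (A : Set X) := fun y hy =>
      Subgroup.mem_centralizer_iff.2 fun b hb => by
        have hb' := (Subgroup.mem_normalizer_iff.1 (inv_mem hon) b).1 hb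
        have := Subgroup.mem_centralizer_iff.1 hy _ hb'
        calc b * (o⁻¹ * h * y * (o⁻¹ * h)⁻¹)
            = o⁻¹ * h * ((o⁻¹ * h)⁻¹ * b * (o⁻¹ * h)⁻¹⁻¹ * y) * (o⁻¹ * h)⁻¹ := by group
          _ = o⁻¹ * h * (y * ((o⁻¹ * h)⁻¹ * b * (o⁻¹ * h)⁻¹⁻¹)) * (o⁻¹ * h)⁻¹ := by rw [this]
          _ = _ := by group
    rw [Subgroup.sup_eq_closure] at hx
    induction hx using Subgroup.closure_induction with
    | one => simp
    | mem y hy =>
      rcases hy with hy | hy
      · have h1 : (o⁻¹ * h) * y * (o⁻¹ * h)⁻¹ ∈ OA := map_conj_cop hCAn hy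
        have e : h * y * h⁻¹ = o * ((o⁻¹ * h) * y * (o⁻¹ * h)⁻¹) * o⁻¹ := by group
        rw [e]
        exact Subgroup.mul_mem _ (Subgroup.mul_mem _ (Subgroup.mem_sup_right ho) (Subgroup.mem_sup_left h1))
          (Subgroup.inv_mem _ (Subgroup.mem_sup_right ho))
      · exact Subgroup.mem_sup_right (cop_conj _ hh hy)
    | inv y _ hy =>
      have e : h * y⁻¹ * h⁻¹ = (h * y * h⁻¹)⁻¹ := by group
      rw [e]; exact Subgroup.inv_mem _ hy
    | mul y z _ _ hy hz =>
      have e : h * (y * z) * h⁻¹ = (h * y * h⁻¹) * (h * z * h⁻¹) := by group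
      rw [e]; exact Subgroup.mul_mem _ hy hz
  have hbal : ∀ a ∈ A, a ≠ 1 → ∀ b ∈ A, b ≠ 1 → θ a ⊓ Subgroup.centralizer {b} ≤ θ b := by
    intro a ha ha1 b hb hb1 r hr
    set R := θ a ⊓ Subgroup.centralizer ({b} : Set X) with hR
    have hRodd : (Nat.card R).Coprime 2 := (card_cop _).coprime_dvd_left (Subgroup.card_dvd_of_le inf_le_left)
    have hAR : ∀ x ∈ A, ∀ y ∈ R, x * y * x⁻¹ ∈ R := fun x hx y hy =>
      Subgroup.mem_inf.2 ⟨cop_conj _ (hAC a ha hx) hy.1,
        Subgroup.mul_mem _ (Subgroup.mul_mem _ (hAC b hb hx) hy.2) (Subgroup.inv_mem _ (hAC b hb hx))⟩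
    -- commutators with `A` lie in the core
    have hc : ∀ x ∈ A, ∀ y ∈ R, y⁻¹ * (x * y * x⁻¹) ∈ θ b := by
      intro x hx y hy
      obtain ⟨o, ho, hon⟩ := hind _ (hAC b hb) (hCne b hb hb1) y hy.2
      set w := (o⁻¹ * y)⁻¹ * x * (o⁻¹ * y) with hw
      have hwA : w ∈ A := by simpa [hw] using (Subgroup.mem_normalizer_iff.1 (inv_mem hon) x).1 hx
      have hwx : w * x ∈ A := mul_mem hwA hx
      set q := (y⁻¹ * (x * y * x⁻¹))⁻¹ * (w * x) with hq
      have hc' : y⁻¹ * (x * y * x⁻¹) ∈ R := mul_mem (inv_mem hy) (hAR x hx y hy)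
      -- congruent to an element of `A`
      have hyC : y ∈ Subgroup.centralizer ({b} : Set X) := hy.2
      have hdiff : (y⁻¹ * (x * y * x⁻¹)) * (w * x)⁻¹ ∈ θ b := by
        have h1 : (y⁻¹ * (x * y * x⁻¹)) * (w * x)⁻¹ =
            (y⁻¹ * x * y) * w⁻¹ := by
          rw [mul_inv_rev, D.inv_eq hx]
          calc y⁻¹ * (x * y * x) * (x * w⁻¹) = y⁻¹ * x * y * (x * x) * w⁻¹ := by group
            _ = _ := by rw [D.exp x hx, mul_one]
        rw [h1]
        have e : y⁻¹ * x * y * w⁻¹ = ((y⁻¹ * x) * o * (y⁻¹ * x)⁻¹) * (y⁻¹ * o⁻¹ * y⁻¹⁻¹) := by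
          rw [hw, D.inv_eq hx |>.symm]; group
        rw [e]
        exact mul_mem (cop_conj _ (mul_mem (inv_mem hyC) (hAC b hb hx)) ho) (cop_conj _ (inv_mem hyC) (inv_mem ho))
      set c := y⁻¹ * (x * y * x⁻¹) with hcdef
      have hcC : c ∈ Subgroup.centralizer ({b} : Set X) := hc'.2
      -- its square lies in the core
      have hsq : c * c ∈ θ b := by
        have h1 : (w * x) * (c * (w * x)⁻¹) * (w * x)⁻¹ ∈ θ b := cop_conj _ (hAC b hb hwx) hdiff
        have h2 := mul_mem hdiff h1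
        convert h2 using 1
        rw [D.inv_eq hwx]
        calc c * c = c * (((w * x) * (w * x)) * c * ((w * x) * (w * x))) := by rw [D.exp _ hwx, one_mul, mul_one]
          _ = _ := by simp only [mul_assoc]
      obtain ⟨l, hl⟩ : Odd (orderOf c) := Nat.coprime_two_right.1
        (hRodd.coprime_dvd_left (Subgroup.orderOf_dvd_natCard R hc'))
      have : c = (c * c) ^ (l + 1) := by
        rw [← sq, ← pow_mul, show 2 * (l + 1) = orderOf c + 1 by omega, pow_succ, pow_orderOf_eq_one, one_mul]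
      rw [this]
      exact pow_mem hsq _
    -- a fixed point in the coset
    set B := R ⊓ θ b with hB
    have hAB : ∀ x ∈ A, ∀ y ∈ B, x * y * x⁻¹ ∈ B := fun x hx y hy =>
      ⟨hAR x hx y hy.1, cop_conj _ (hAC b hb hx) hy.2⟩
    letI : MulAction A B :=
      { smul := fun x y => ⟨r⁻¹ * ((x : X) * (r * y) * (x : X)⁻¹), by
          have e : r⁻¹ * ((x : X) * (r * y) * (x : X)⁻¹) =
              (r⁻¹ * ((x : X) * r * (x : X)⁻¹)) * ((x : X) * y * (x : X)⁻¹) := by group
          rw [e]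
          exact mul_mem (Subgroup.mem_inf.2 ⟨Subgroup.mul_mem R (Subgroup.inv_mem R hr) (hAR x x.2 r hr), hc x x.2 r hr⟩)
            (hAB x x.2 y y.2)⟩
        one_smul := fun y => Subtype.ext (by
          show r⁻¹ * (((1 : A) : X) * (r * y) * ((1 : A) : X)⁻¹) = y; simp)
        mul_smul := fun x x' y => Subtype.ext (by
          show r⁻¹ * (((x * x' : A) : X) * (r * y) * ((x * x' : A) : X)⁻¹) =
            r⁻¹ * ((x : X) * (r * (r⁻¹ * ((x' : X) * (r * y) * (x' : X)⁻¹))) * (x : X)⁻¹)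
          push_cast; group) }
    obtain ⟨y, hy⟩ := D.isPGroup.nonempty_fixed_point_of_prime_not_dvd_card B
      (fun h => Nat.not_coprime_of_dvd_of_dvd (by norm_num : 1 < 2)
        (h.trans (Subgroup.card_dvd_of_le inf_le_left)) dvd_rfl hRodd)
    have hry : r * y ∈ Subgroup.centralizer (A : Set X) := Subgroup.mem_centralizer_iff.2 fun x hx => by
      have h := congrArg Subtype.val (MulAction.mem_fixedPoints.1 hy ⟨x, hx⟩)
      change r⁻¹ * (x * (r * y) * x⁻¹) = y at h
      rw [inv_mul_eq_iff_eq_mul, mul_inv_eq_iff_eq_mul] at h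
      exact h
    have h1 : r * y ∈ θ b := hup b hb hb1 (hdown a ha ⟨mul_mem hr.1 y.2.1.1, hry⟩)
    have := mul_mem h1 (inv_mem y.2.2)
    rwa [mul_inv_cancel_right] at this
  obtain ⟨hW2, hWfix⟩ := Cfsg.Agent.S0217.result (p := 2) A D.comm (fun a ha => by rw [sq]; exact D.exp a ha) hrank θ
    (fun a _ _ => cop_le _)
    (fun a _ _ h => Nat.not_coprime_of_dvd_of_dvd (by norm_num : 1 < 2) h dvd_rfl (card_cop _))
    (fun a ha _ b hb x hx => cop_conj _ (hAC a ha hb) hx)
    (fun a _ _ => Cfsg.Agent.S0205.result (Nat.coprime_two_right.1 (card_cop _))) hbal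
  set W := ⨆ a : {a : X // a ∈ A ∧ a ≠ 1}, θ a with hW
  have hθW : ∀ a ∈ A, a ≠ 1 → θ a ≤ W := fun a ha ha1 =>
    le_iSup (fun a : {a : X // a ∈ A ∧ a ≠ 1} => θ a) ⟨a, ha, ha1⟩
  have hNW : Subgroup.normalizer (A : Set X) ≤ Subgroup.normalizer (W : Set X) := by
    intro m hm
    refine mem_normalizer_of_conj fun w hw => ?_
    have hle : W ≤ W.comap (MulAut.conj m).toMonoidHom := iSup_le fun ⟨a, ha, ha1⟩ y hy => by
      rw [Subgroup.mem_comap]
      simp only [MulEquiv.coe_toMonoidHom, MulAut.conj_apply]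
      have ha' := (Subgroup.mem_normalizer_iff.1 hm a).1 ha
      have ha1' : m * a * m⁻¹ ≠ 1 := fun h => ha1 (conj_eq_one_iff.1 h)
      refine hθW _ ha' ha1' (le_cop (H := Subgroup.centralizer ({m * a * m⁻¹} : Set X))
        (N := (θ a).map (MulAut.conj m).toMonoidHom) ?_ ?_ ?_ ⟨y, hy, by simp⟩)
      · rintro _ ⟨z, hz, rfl⟩
        have := Subgroup.mem_centralizer_singleton_iff.1 (cop_le _ hz)
        refine Subgroup.mem_centralizer_singleton_iff.2 ?_
        simp only [MulEquiv.coe_toMonoidHom, MulAut.conj_apply]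
        calc m * z * m⁻¹ * (m * a * m⁻¹) = m * (z * a) * m⁻¹ := by group
          _ = m * (a * z) * m⁻¹ := by rw [this]
          _ = _ := by group
      · rintro h hh _ ⟨z, hz, rfl⟩
        have hh' : m⁻¹ * h * m ∈ Subgroup.centralizer ({a} : Set X) := by
          have := Subgroup.mem_centralizer_singleton_iff.1 hh
          refine Subgroup.mem_centralizer_singleton_iff.2 ?_
          calc m⁻¹ * h * m * a = m⁻¹ * (h * (m * a * m⁻¹)) * m := by group
            _ = m⁻¹ * ((m * a * m⁻¹) * h) * m := by rw [this]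
            _ = _ := by group
        exact ⟨_, cop_conj _ hh' hz, by simp only [MulEquiv.coe_toMonoidHom, MulAut.conj_apply]; group⟩
      · rw [Subgroup.card_map_of_injective (MulAut.conj m).injective]
        exact card_cop _
    simpa using hle hw
  have hAN : A ≤ Subgroup.normalizer (A : Set X) := Subgroup.le_normalizer
  intro g₀
  by_contra hg₀
  set M := if W = ⊥ then Subgroup.normalizer (A : Set X) else Subgroup.normalizer (W : Set X) with hM
  have hNM : Subgroup.normalizer (A : Set X) ≤ M := by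
    rw [hM]; split_ifs <;> [exact le_rfl; exact hNW]
  have hθM : ∀ a ∈ A, a ≠ 1 → θ a ≤ M := by
    intro a ha ha1
    rw [hM]; split_ifs with h
    · exact (hθW a ha ha1).trans (h.trans_le bot_le)
    · exact (hθW a ha ha1).trans Subgroup.le_normalizer
  have hMtop : M ≠ ⊤ := by
    intro h
    rw [hM] at h
    split_ifs at h with hW0
    · exact hg₀ (h ▸ Subgroup.mem_top g₀)
    · haveI : W.Normal := Subgroup.normalizer_eq_top_iff.1 h
      exact hW0 (le_bot_iff.1 (hO ▸ le_pPrimeCore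
        (((Nat.Prime.coprime_iff_not_dvd Nat.prime_two).2 hW2).symm)))
  refine hg₀ (finish D h3 hO M (hAN.trans hNM) (fun a ha ha1 c hc => ?_)
    (hind M (hAN.trans hNM) hMtop) g₀)
  obtain ⟨o, ho, hon⟩ := hind _ (hAC a ha) (hCne a ha ha1) c hc
  simpa using mul_mem (hθM a ha ha1 ho) (hNM hon)

end CfsgLib.FpfSymThree
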